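import Cfsg.Agent.Lib.Twist3D4Inv.Coords

/-!
Every involution of ³D₄(q), q even, is conjugate to a long or to a short root element.
-/

set_option autoImplicit false
set_option maxRecDepth 100000
set_option linter.unusedSectionVars false
set_option linter.unusedSimpArgs false
set_option maxHeartbeats 800000

namespace Cfsg.Agent.Lib.Twist3D4Inv

open Cfsg.Lie ChevStructure LieTwisted.Twist
open scoped MatrixGroups

variable {K : Type*} [Field K] [Fintype K] [CharP K 2] {q : ℕ} {φ : K ≃+* K} (F : Frob.Facts K q 3 φ) (hq1 : 1 < q)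
  (hK : Fintype.card K = q ^ 3)

/-- Conjugacy under the twisted group. -/
def Rel (T : Tw D4.C K) (a b : GL chevD4.Idx K) : Prop := ∃ g ∈ T.W, g * a * g⁻¹ = b

theorem Rel.trans {T : Tw D4.C K} {a b c : GL chevD4.Idx K} (h : Rel T a b) (h' : Rel T b c) : Rel T a c := by
  obtain ⟨g, hg, rfl⟩ := h
  obtain ⟨g', hg', rfl⟩ := h'
  exact ⟨g' * g, mul_mem hg' hg, by group⟩

theorem Rel.of_involution {T : Tw D4.C K} {g a b : GL chevD4.Idx K} (hg : g ∈ T.W) (h2 : g * g = 1)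
    (h : g * a * g = b) : Rel T a b :=
  ⟨g, hg, by rw [inv_eq_of_mul_eq_one_right h2, h]⟩

theorem Rel.sq {T : Tw D4.C K} {a b : GL chevD4.Idx K} (h : Rel T a b) (ha : a * a = 1) : b * b = 1 := by
  obtain ⟨g, -, rfl⟩ := h
  rw [show g * a * g⁻¹ * (g * a * g⁻¹) = g * (a * a) * g⁻¹ by group, ha, mul_one, mul_inv_cancel]

theorem x14_sq (r : K) : x 14 r * x 14 r = 1 := x_sq ⟨14, by decide⟩ r

theorem x22_sq (r : K) : x 22 r * x 22 r = 1 := x_sq ⟨22, by decide⟩ r

theorem W4_zero : W4 φ (0 : K) 0 0 0 = 1 := by simp [W4, AA_zero, BB_zero, x_zero]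

theorem AA_eq_W4 (v : K) : AA φ v = W4 φ v 0 0 0 := by simp [W4, BB_zero, x_zero]

theorem BB_eq_W4 (s : K) : BB φ s = W4 φ 0 s 0 0 := by simp [W4, AA_zero, x_zero]

theorem W4_congr {v v' s s' k k' m m' : K} (h1 : v = v') (h2 : s = s') (h3 : k = k') (h4 : m = m') :
    W4 φ v s k m = W4 φ v' s' k' m' := by subst h1 h2 h3 h4; rfl

theorem tr_zero : tr φ (0 : K) = 0 := by simp [tr]

theorem sig_zero_left (t : K) : sig φ 0 t = 0 := by simp [sig]

theorem conj_x_val (L : List (Fin chevD4.rank)) (r : Rt chevD4) (t : K) :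
    D4.C.wprod K L * D4.C.X K r t * (D4.C.wprod K L)⁻¹ = D4.C.X K (D4.C.pprod L r) t := by
  induction L generalizing r t with
  | nil => simp [Core.wprod, D4.C.pprod_nil]
  | cons i L ih =>
    rw [D4.C.wprod_cons, D4.C.pprod_cons, Equiv.Perm.mul_apply, D4.C.sref_apply,
      show D4.C.P K i * D4.C.wprod K L * D4.C.X K r t * (D4.C.P K i * D4.C.wprod K L)⁻¹ =
        D4.C.P K i * (D4.C.wprod K L * D4.C.X K r t * (D4.C.wprod K L)⁻¹) * (D4.C.P K i)⁻¹ by group, ih,
      D4.C.P_X_conj]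
    rcases D4.C.η_one i (D4.C.pprod L r) with h | h <;> rw [h] <;> simp [CharTwo.neg_eq]

theorem sq_inj {a b : K} (h : a * a = b * b) : a = b := by
  refine CharTwo.add_eq_zero.1 (mul_self_eq_zero.1 ?_)
  rw [show (a + b) * (a + b) = a * a + b * b + (a * b + a * b) by ring, h, CharTwo.add_self_eq_zero,
    CharTwo.add_self_eq_zero, add_zero]

theorem exists_sqrt (a : K) : ∃ l : K, l * l = a :=
  (Finite.injective_iff_surjective.1 fun _ _ h => sq_inj h) a

include F hq1 hK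

local notation "T" => TT F hq1 hK

/-- The image of a root element under the representative of a twisted reflection. -/
theorem conj_nO (m : Fin 2) {r s : Rt chevD4}
    (h : Data.D4.fast.actW (D4.Js.getD m.val []) r.val = s.val) (t : K) :
    (T).nO m * x r.val t * ((T).nO m)⁻¹ = x s.val t := by
  rw [x_eq, x_eq]
  show D4.C.wprod K ((T).J m) * D4.C.X K r t * (D4.C.wprod K ((T).J m))⁻¹ = _
  rw [conj_x_val]
  congr 1
  refine Fin.ext ?_
  rw [show (D4.C.pprod ((T).J m) r).val = Data.D4.fast.actW (((T).J m).map Fin.val) r.val from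
    Cert.D4.certified.actW_eq _ r, D4.Js_spec F hq1 hK m]
  exact h

theorem nb_rel {a b : GL chevD4.Idx K} (h : (T).nO (0 : Fin 2) * a * ((T).nO (0 : Fin 2))⁻¹ = b) : Rel T a b :=
  ⟨_, (T).nO_mem _, h⟩

theorem na_rel {a b : GL chevD4.Idx K} (h : (T).nO (1 : Fin 2) * a * ((T).nO (1 : Fin 2))⁻¹ = b) : Rel T a b :=
  ⟨_, (T).nO_mem _, h⟩

/-- `A(v) c(k) z(m)` is conjugate to `A(v)`. -/
theorem rel_AA {v k m : K} (hv : v ≠ 0) (hk : φ k = k) (hm : φ m = m) : Rel T (W4 φ v 0 k m) (AA φ v) := by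
  have h3 := hpow F hq1 hK
  obtain ⟨l, hl⟩ := exists_sqrt (k / nm φ v)
  have hlf : φ l = l := sq_inj (by rw [← map_mul, hl, map_div₀, hk, φ_nm h3])
  have h1 := W4_al h3 v 0 k m (l * v)
  rw [sig_mul_self hlf, add_zero] at h1
  have hc : k + tr φ (v * φ (l * v) * φ (φ (l * v))) + tr φ (0 * φ (φ (l * v))) = 0 := by
    rw [zero_mul, tr_zero, add_zero, map_mul, map_mul, hlf, hlf,
      show v * (l * φ v) * (l * φ (φ v)) = l * l * nm φ v by rw [nm]; ring, hl,
      div_mul_cancel₀ _ (nm_ne_zero hv), tr_fixed h3 hk, CharTwo.add_self_eq_zero]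
  rw [hc] at h1
  set m1 := m + tr φ (v * φ v * φ (φ (l * v)))
  have hm1 : φ m1 = m1 := by rw [map_add, hm, φ_tr h3]
  refine (Rel.of_involution (al_mem F hq1 hK _) (al_sq _) h1).trans ?_
  set b := φ.symm (m1 / v) with hb
  refine Rel.of_involution (BB_mem F hq1 hK b) (BB_sq b) ?_
  rw [BB_eq_W4, W4_mul h3, W4_mul h3, AA_eq_W4]
  simp only [zero_add, add_zero, CharTwo.add_self_eq_zero, zero_mul, mul_zero, tr_zero, map_zero]
  rw [hb, RingEquiv.apply_symm_apply, mul_div_cancel₀ _ hv, tr_fixed h3 hm1, CharTwo.add_self_eq_zero]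

/-- The case of a non-trivial component at the short fundamental orbit. -/
theorem rel_al {t v s k m : K} (ht : t ≠ 0) (hk : φ k = k) (hm : φ m = m)
    (hu : al φ t * W4 φ v s k m * (al φ t * W4 φ v s k m) = 1) :
    ∃ w, w ≠ 0 ∧ Rel T (al φ t * W4 φ v s k m) (AA φ w) := by
  have h3 := hpow F hq1 hK
  rw [← mul_assoc, W4_al h3, W4_mul h3, ← W4_zero (φ := φ)] at hu
  obtain ⟨-, hs, hc, -⟩ := W4_inj h3 hu
  rw [show s + sig φ v t + s = sig φ v t + (s + s) by ring, CharTwo.add_self_eq_zero, add_zero] at hs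
  obtain ⟨l, hlf, rfl⟩ := sig_eq_zero h3 ht hs
  have hc' : tr φ (s * φ (φ t)) = l * nm φ t := by
    rw [show k + tr φ (l * t * φ t * φ (φ t)) + tr φ (s * φ (φ t)) + k =
      tr φ (l * nm φ t) + tr φ (s * φ (φ t)) + (k + k) by rw [nm]; ring, CharTwo.add_self_eq_zero, add_zero,
      tr_fixed h3 (by rw [map_mul, hlf, φ_nm h3])] at hc
    exact (CharTwo.add_eq_zero.1 hc).symm
  -- conjugation by an element of the long fundamental root group
  set s1 := l * t * φ t + s with hs1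
  have hs1c : tr φ (s1 * φ (φ t)) = 0 := by
    rw [hs1, add_mul, show tr φ (l * t * φ t * φ (φ t) + s * φ (φ t)) =
      tr φ (l * nm φ t) + tr φ (s * φ (φ t)) by simp only [tr, nm, map_add, map_mul]; ring,
      tr_fixed h3 (by rw [map_mul, hlf, φ_nm h3]), hc', CharTwo.add_self_eq_zero]
  obtain ⟨k1, m1, hk1, hm1, e1⟩ : ∃ k1 m1, φ k1 = k1 ∧ φ m1 = m1 ∧
      x 14 l * (al φ t * W4 φ (l * t) s k m) * x 14 l = al φ t * W4 φ 0 s1 k1 m1 := by
    refine ⟨l * nm φ t + k, tr φ (l * t * φ (l * t * φ t)) + 0 + (m + l * k), by rw [map_add, map_mul, hlf, φ_nm h3, hk],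
      by simp only [map_add, map_mul, φ_tr h3, map_zero, hm, hlf, hk], ?_⟩
    have e : x 14 l * (al φ t * W4 φ (l * t) s k m) * x 14 l =
        al φ t * ((al φ t * x 14 l * al φ t) * x 14 l) * (x 14 l * (x 14 l * (al φ t * al φ t))) *
          (x 14 l * W4 φ (l * t) s k m * x 14 l) := by
      rw [al_sq, mul_one, x14_sq, mul_one]
      calc x 14 l * (al φ t * W4 φ (l * t) s k m) * x 14 l
          = (al φ t * al φ t) * x 14 l * al φ t * (x 14 l * x 14 l) * W4 φ (l * t) s k m * x 14 l := by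
            rw [al_sq, x14_sq]; group
        _ = _ := by group
    rw [e, al_sq, mul_one, x14_sq, mul_one, al_beta_al h3 hlf, W4_beta h3, W4_beta h3, mul_assoc, W4_mul h3]
    refine congrArg (al φ t * ·) (W4_congr ?_ rfl rfl ?_)
    · rw [CharTwo.add_self_eq_zero]
    · rw [show l * l * nm φ t + l * (l * nm φ t) = (l * l * nm φ t) + (l * l * nm φ t) by ring,
        CharTwo.add_self_eq_zero]
  refine (fun ⟨w, hw, h⟩ => ⟨w, hw, (Rel.of_involution (beta_mem F hq1 hK hlf) (x14_sq l) e1).trans h⟩ :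
    (∃ w, w ≠ 0 ∧ Rel T (al φ t * W4 φ 0 s1 k1 m1) (AA φ w)) → _) ?_
  -- conjugation by elements of the orbit of a + b
  have key : ∀ a s k m, φ k = k → φ m = m → ∃ m', φ m' = m' ∧ AA φ a * (al φ t * W4 φ 0 s k m) * AA φ a =
      al φ t * W4 φ 0 (sig φ a t + s) (tr φ (a * φ t * φ (φ t)) + k) m' := by
    intro a s k m hk hm
    refine ⟨tr φ (a * φ (sig φ a t + s)) + (tr φ (0 * φ (sig φ a t)) + tr φ (a * φ a * φ (φ t)) + m) + 0, ?_, ?_⟩
    rotate_left
    · calc AA φ a * (al φ t * W4 φ 0 s k m) * AA φ a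
          = al φ t * ((al φ t * AA φ a * al φ t) * W4 φ 0 s k m * AA φ a) := by
            calc _ = (al φ t * al φ t) * AA φ a * al φ t * W4 φ 0 s k m * AA φ a := by rw [al_sq]; group
              _ = _ := by group
        _ = _ := by
            rw [al_AA_al h3, AA_eq_W4, W4_mul h3, W4_mul h3]
            refine congrArg (al φ t * ·) (W4_congr ?_ ?_ ?_ rfl)
            · rw [add_zero, CharTwo.add_self_eq_zero]
            · rw [add_zero]
            · rw [add_zero]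
    · simp only [map_add, φ_tr h3, hm, map_zero]
  obtain ⟨a, ha⟩ := exists_sig h3 ht hs1c
  obtain ⟨m2, hm2, e2⟩ := key a s1 k1 m1 hk1 hm1
  rw [ha, CharTwo.add_self_eq_zero] at e2
  set k2 := tr φ (a * φ t * φ (φ t)) + k1
  have hk2 : φ k2 = k2 := by rw [map_add, φ_tr h3, hk1]
  set l2 := k2 / nm φ t with hl2
  have hl2f : φ l2 = l2 := by rw [hl2, map_div₀, hk2, φ_nm h3]
  obtain ⟨m3, hm3, e3⟩ := key (l2 * t) 0 k2 m2 hk2 hm2
  rw [sig_self_mul hl2f, add_zero, show tr φ (l2 * t * φ t * φ (φ t)) + k2 = 0 by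
    rw [show l2 * t * φ t * φ (φ t) = k2 by
      rw [show l2 * t * φ t * φ (φ t) = l2 * nm φ t by rw [nm]; ring, hl2, div_mul_cancel₀ _ (nm_ne_zero ht)],
      tr_fixed h3 hk2, CharTwo.add_self_eq_zero]] at e3
  refine ⟨t, ht, ((Rel.of_involution (AA_mem F hq1 hK a) (AA_sq a) e2).trans
    (Rel.of_involution (AA_mem F hq1 hK _) (AA_sq _) e3)).trans ?_⟩
  refine (nb_rel F hq1 hK (b := W4 φ t 0 m3 0) ?_).trans (rel_AA F hq1 hK ht hm3 (map_zero φ))
  have c1 := conj_nO F hq1 hK 0 (r := ⟨18, by decide⟩) (s := ⟨19, by decide⟩) (by decide +kernel) t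
  have c2 := conj_nO F hq1 hK 0 (r := ⟨13, by decide⟩) (s := ⟨16, by decide⟩) (by decide +kernel) (φ t)
  have c3 := conj_nO F hq1 hK 0 (r := ⟨12, by decide⟩) (s := ⟨15, by decide⟩) (by decide +kernel) (φ (φ t))
  have c4 := conj_nO F hq1 hK 0 (r := ⟨23, by decide⟩) (s := ⟨22, by decide⟩) (by decide +kernel) m3
  simp only [W4, AA_zero, BB_zero, x_zero, one_mul, mul_one]
  simp only [al, AA]
  rw [← c1, ← c2, ← c3, ← c4]
  group

/-- The case of a non-trivial component at the long fundamental root. -/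
theorem rel_beta {r v s k m : K} (hr0 : r ≠ 0) (hr : φ r = r) (hk : φ k = k) (hm : φ m = m)
    (hu : x 14 r * W4 φ v s k m * (x 14 r * W4 φ v s k m) = 1) :
    (∃ w, w ≠ 0 ∧ Rel T (x 14 r * W4 φ v s k m) (AA φ w)) ∨
      ∃ w, w ≠ 0 ∧ φ w = w ∧ Rel T (x 14 r * W4 φ v s k m) (x 23 w) := by
  have h3 := hpow F hq1 hK
  set τ := v / r with hτ
  have hrτ : r * τ = v := by rw [hτ, mul_div_cancel₀ _ hr0]
  obtain ⟨s1, k1, m1, hk1, hm1, e1⟩ : ∃ s1 k1 m1, φ k1 = k1 ∧ φ m1 = m1 ∧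
      al φ τ * (x 14 r * W4 φ v s k m) * al φ τ = x 14 r * W4 φ 0 s1 k1 m1 := by
    refine ⟨r * τ * φ τ + (s + sig φ v τ), r * nm φ τ + (k + tr φ (v * φ τ * φ (φ τ)) + tr φ (s * φ (φ τ))),
      tr φ (v * φ (r * τ * φ τ)) + r * r * nm φ τ + (m + tr φ (v * φ v * φ (φ τ))), ?_, ?_, ?_⟩
    rotate_left 2
    · calc al φ τ * (x 14 r * W4 φ v s k m) * al φ τ
          = al φ τ * x 14 r * (al φ τ * al φ τ) * W4 φ v s k m * al φ τ := by rw [al_sq]; group
        _ = (al φ τ * x 14 r * al φ τ) * (al φ τ * W4 φ v s k m * al φ τ) := by group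
        _ = _ := by
            rw [al_beta_al h3 hr, W4_al h3, mul_assoc, W4_mul h3, hrτ, CharTwo.add_self_eq_zero]
    · simp only [map_add, map_mul, hr, φ_nm h3, φ_tr h3, hk]
    · simp only [map_add, map_mul, hr, φ_nm h3, φ_tr h3, hm]
  have hR := Rel.of_involution (al_mem F hq1 hK τ) (al_sq τ) e1
  have hu1 := hR.sq hu
  rw [← mul_assoc, W4_beta h3, W4_mul h3, ← W4_zero (φ := φ)] at hu1
  obtain ⟨-, -, -, hz⟩ := W4_inj h3 hu1
  rw [zero_mul, tr_zero, zero_add, show m1 + r * k1 + m1 = r * k1 + (m1 + m1) by ring,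
    CharTwo.add_self_eq_zero, add_zero] at hz
  have hk10 : k1 = 0 := (mul_eq_zero.1 hz).resolve_left hr0
  subst hk10
  set c := m1 / r with hc
  have hcf : φ c = c := by rw [hc, map_div₀, hm1, hr]
  have e2 : x 22 c * (x 14 r * W4 φ 0 s1 0 m1) * x 22 c = x 14 r * BB φ s1 := by
    have e : x 22 c * (x 14 r * W4 φ 0 s1 0 m1) * x 22 c =
        x 14 r * ((x 14 r * x 22 c * x 14 r) * (W4 φ 0 s1 0 m1 * x 22 c)) := by
      calc _ = (x 14 r * x 14 r) * x 22 c * (x 14 r * W4 φ 0 s1 0 m1) * x 22 c := by rw [x14_sq, one_mul]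
        _ = _ := by group
    rw [e, conj_c_beta, show x 22 c * x 23 (r * c) = W4 φ 0 0 c (r * c) by simp [W4, AA_zero, BB_zero],
      show x 22 c = W4 φ 0 0 c 0 by simp [W4, AA_zero, BB_zero, x_zero], W4_mul h3, W4_mul h3, BB_eq_W4]
    refine congrArg (x 14 r * ·) (W4_congr ?_ ?_ ?_ ?_)
    · simp
    · simp
    · simp [CharTwo.add_self_eq_zero]
    · rw [hc, mul_div_cancel₀ _ hr0]; simp [tr_zero, CharTwo.add_self_eq_zero]
  have hR2 := hR.trans (Rel.of_involution (c_mem F hq1 hK hcf) (x22_sq c) e2)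
  by_cases hs : s1 = 0
  · subst hs
    rw [BB_zero, mul_one] at hR2
    refine Or.inr ⟨r, hr0, hr, (hR2.trans (na_rel F hq1 hK
      (conj_nO F hq1 hK 1 (r := ⟨14, by decide⟩) (s := ⟨22, by decide⟩) (by decide +kernel) r))).trans
        (nb_rel F hq1 hK (conj_nO F hq1 hK 0 (r := ⟨22, by decide⟩) (s := ⟨23, by decide⟩) (by decide +kernel) r))⟩
  · refine Or.inl ⟨φ s1, (map_ne_zero φ).2 hs, (hR2.trans (na_rel F hq1 hK (b := W4 φ (φ s1) 0 r 0) ?_)).trans
      (rel_AA F hq1 hK ((map_ne_zero φ).2 hs) hr (map_zero φ))⟩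
    have c1 := conj_nO F hq1 hK 1 (r := ⟨14, by decide⟩) (s := ⟨22, by decide⟩) (by decide +kernel) r
    have c2 := conj_nO F hq1 hK 1 (r := ⟨21, by decide⟩) (s := ⟨15, by decide⟩) (by decide +kernel) s1
    have c3 := conj_nO F hq1 hK 1 (r := ⟨17, by decide⟩) (s := ⟨19, by decide⟩) (by decide +kernel) (φ s1)
    have c4 := conj_nO F hq1 hK 1 (r := ⟨20, by decide⟩) (s := ⟨16, by decide⟩) (by decide +kernel) (φ (φ s1))
    calc (T).nO (1 : Fin 2) * (x 14 r * BB φ s1) * ((T).nO (1 : Fin 2))⁻¹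
        = x 22 r * (x 15 s1 * x 19 (φ s1) * x 16 (φ (φ s1))) := by
          rw [← c1, ← c2, ← c3, ← c4, BB]; group
      _ = _ := by
          simp only [W4, BB_zero, x_zero, one_mul, mul_one, AA, h3, mul_assoc, swap_22_19, swap_22_19',
            swap_22_16, swap_22_16', swap_22_15, swap_22_15', swap_19_16, swap_19_16', swap_19_15, swap_19_15',
            swap_16_15, swap_16_15']

/-- Every involution of the unipotent radical is conjugate to a root element. -/
theorem rel_cases {g : GL chevD4.Idx K} (hg : g ∈ D4.C.US K D4.C.Pos) (hgW : g ∈ (T).W) (h2 : g * g = 1) (h1 : g ≠ 1) :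
    (∃ w, w ≠ 0 ∧ Rel T g (AA φ w)) ∨ ∃ w, w ≠ 0 ∧ φ w = w ∧ Rel T g (x 23 w) := by
  have h3 := hpow F hq1 hK
  obtain ⟨r, t, v, s, k, m, hr, hk, hm, rfl⟩ := exists_coords F hq1 hK hg hgW
  by_cases ht : t ≠ 0
  · left
    have e : x 14 r * al φ t * W4 φ v s k m =
        al φ t * (x 14 r * (W4 φ (r * t) (r * t * φ t) (r * nm φ t) (r * r * nm φ t) * W4 φ v s k m)) := by
      rw [← mul_assoc (x 14 r), ← al_beta_al h3 hr]
      calc x 14 r * al φ t * W4 φ v s k m = al φ t * al φ t * x 14 r * al φ t * W4 φ v s k m := by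
            rw [al_sq, one_mul]
        _ = _ := by group
    rw [W4_mul h3] at e
    rw [e] at h2 ⊢
    obtain ⟨s', k', m', hk', hm', ew⟩ : ∃ s' k' m', φ k' = k' ∧ φ m' = m' ∧
        W4 φ (r * t + v) (r * t * φ t + s) (r * nm φ t + k) (tr φ (v * φ (r * t * φ t)) + r * r * nm φ t + m) =
          W4 φ (r * t + v) s' k' m' :=
      ⟨_, _, _, by simp only [map_add, map_mul, hr, φ_nm h3, hk],
        by simp only [map_add, map_mul, hr, φ_nm h3, φ_tr h3, hm], rfl⟩
    rw [ew] at h2 ⊢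
    have hr0 : r = 0 := by
      set v' := r * t + v
      have e2 : al φ t * (x 14 r * W4 φ v' s' k' m') * al φ t * (x 14 r * W4 φ v' s' k' m') = 1 := by
        rw [← h2]; group
      rw [show al φ t * (x 14 r * W4 φ v' s' k' m') * al φ t =
          (al φ t * x 14 r * al φ t) * (al φ t * W4 φ v' s' k' m' * al φ t) by
        calc _ = al φ t * x 14 r * (al φ t * al φ t) * W4 φ v' s' k' m' * al φ t := by rw [al_sq]; group
          _ = _ := by group, al_beta_al h3 hr, W4_al h3] at e2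
      rw [mul_assoc (x 14 r), W4_mul h3, mul_assoc (x 14 r), ← mul_assoc _ (x 14 r)] at e2
      rw [← mul_assoc (x 14 r), ← mul_assoc (x 14 r), W4_beta h3, W4_mul h3, ← W4_zero (φ := φ)] at e2
      obtain ⟨hv, -⟩ := W4_inj h3 e2
      rw [show r * t + v' + v' = r * t + (v' + v') by ring, CharTwo.add_self_eq_zero, add_zero] at hv
      exact (mul_eq_zero.1 hv).resolve_right ht
    subst hr0
    rw [x_zero, one_mul] at h2 ⊢
    exact rel_al F hq1 hK ht hk' hm' h2
  rw [not_not] at ht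
  subst ht
  rw [al_zero, mul_one] at h2 h1 ⊢
  by_cases hr0 : r ≠ 0
  · exact rel_beta F hq1 hK hr0 hr hk hm h2
  rw [not_not] at hr0
  subst hr0
  rw [x_zero, one_mul] at h2 h1 ⊢
  have hq0 := h2
  rw [W4_mul h3, ← W4_zero (φ := φ)] at hq0
  obtain ⟨-, -, -, hz⟩ := W4_inj h3 hq0
  rw [add_assoc, CharTwo.add_self_eq_zero, add_zero] at hz
  by_cases hv : v ≠ 0
  · left
    have hs : tr φ (s * φ (φ v)) = 0 := by
      rw [← hz, ← tr_φ h3 (v * φ s), ← tr_φ h3 (φ (v * φ s))]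
      congr 1
      simp only [map_mul, h3]
      ring
    obtain ⟨τ, hτ⟩ := exists_sig h3 hv hs
    have hσ : s + sig φ v τ = 0 := by
      rw [show sig φ v τ = sig φ τ v by rw [sig, sig]; ring, hτ, CharTwo.add_self_eq_zero]
    have e := W4_al h3 v s k m τ
    rw [hσ] at e
    exact ⟨v, hv, (Rel.of_involution (al_mem F hq1 hK τ) (al_sq τ) e).trans
      (rel_AA F hq1 hK hv (by simp only [map_add, hk, φ_tr h3]) (by simp only [map_add, hm, φ_tr h3]))⟩
  rw [not_not] at hv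
  subst hv
  by_cases hs : s ≠ 0
  · -- move to the orbit of a + b
    have hR : Rel T (W4 φ 0 s k m) (x 14 k * W4 φ (φ s) 0 0 m) := by
      refine na_rel F hq1 hK ?_
      have c1 := conj_nO F hq1 hK 1 (r := ⟨22, by decide⟩) (s := ⟨14, by decide⟩) (by decide +kernel) k
      have c2 := conj_nO F hq1 hK 1 (r := ⟨21, by decide⟩) (s := ⟨15, by decide⟩) (by decide +kernel) s
      have c3 := conj_nO F hq1 hK 1 (r := ⟨17, by decide⟩) (s := ⟨19, by decide⟩) (by decide +kernel) (φ s)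
      have c4 := conj_nO F hq1 hK 1 (r := ⟨20, by decide⟩) (s := ⟨16, by decide⟩) (by decide +kernel) (φ (φ s))
      have c5 := conj_nO F hq1 hK 1 (r := ⟨23, by decide⟩) (s := ⟨23, by decide⟩) (by decide +kernel) m
      calc (T).nO (1 : Fin 2) * W4 φ 0 s k m * ((T).nO (1 : Fin 2))⁻¹
          = x 15 s * x 19 (φ s) * x 16 (φ (φ s)) * x 14 k * x 23 m := by
            rw [← c1, ← c2, ← c3, ← c4, ← c5, W4, AA_zero, BB]; group
        _ = AA φ (φ s) * x 14 k * x 23 m := by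
            congr 2
            simp only [AA, h3, mul_assoc, swap_19_16, swap_19_16', swap_19_15, swap_19_15', swap_16_15, swap_16_15']
        _ = _ := by
            rw [(beta_comm_AA k (φ s)).eq, W4]
            simp [BB_zero, x_zero, mul_assoc]
    by_cases hk0 : k = 0
    · subst hk0
      rw [x_zero, one_mul] at hR
      exact Or.inl ⟨φ s, (map_ne_zero φ).2 hs,
        hR.trans (rel_AA F hq1 hK ((map_ne_zero φ).2 hs) (map_zero φ) hm)⟩
    · rcases rel_beta F hq1 hK hk0 hk (map_zero φ) hm (hR.sq h2) with ⟨w, hw, h⟩ | ⟨w, hw, hwf, h⟩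
      · exact Or.inl ⟨w, hw, hR.trans h⟩
      · exact Or.inr ⟨w, hw, hwf, hR.trans h⟩
  rw [not_not] at hs
  subst hs
  right
  by_cases hk0 : k = 0
  · subst hk0
    refine ⟨m, fun h => h1 (by rw [h]; exact W4_zero), hm, 1, one_mem _, ?_⟩
    simp [W4, AA_zero, BB_zero, x_zero]
  · set b := m / k with hb
    have hbf : φ b = b := by rw [hb, map_div₀, hm, hk]
    refine ⟨k, hk0, hk, (Rel.of_involution (beta_mem F hq1 hK hbf) (x14_sq b) (W4_beta h3 0 0 k m)).trans
      (nb_rel F hq1 hK ?_)⟩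
    rw [show m + b * k = 0 by rw [hb, div_mul_cancel₀ _ hk0, CharTwo.add_self_eq_zero],
      ← conj_nO F hq1 hK 0 (r := ⟨22, by decide⟩) (s := ⟨23, by decide⟩) (by decide +kernel) k]
    simp [W4, AA_zero, BB_zero, x_zero]

end Cfsg.Agent.Lib.Twist3D4Inv
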