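import Cfsg.Agent.Lib.LieTwisted.Twist.D4Thms
import Mathlib.Algebra.CharP.Two

/-!
Collection of products of positive root elements of D₄ in characteristic two.
-/

set_option autoImplicit false
set_option maxRecDepth 100000
set_option linter.unusedSectionVars false
set_option linter.unusedSimpArgs false
set_option maxHeartbeats 4000000

namespace Cfsg.Agent.Lib.Twist3D4Inv

open Cfsg.Lie ChevStructure LieTwisted.Twist
open scoped MatrixGroups

variable {K : Type*} [Field K]

/-- The root elements. -/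
noncomputable def x (k : ℕ) (t : K) : GL chevD4.Idx K := D4.C.XN K k t

theorem x_eq (r : Rt chevD4) (t : K) : x r.val t = D4.C.X K r t := D4.C.XN_fin K r t

theorem x_add (r : Rt chevD4) (t u : K) : x r.val t * x r.val u = x r.val (t + u) := by
  simp only [x_eq, D4.C.X_add]

theorem x_zero (k : ℕ) : x k (0 : K) = 1 := by
  unfold x Core.XN
  split_ifs
  · exact D4.C.X_zero K _
  · rfl

theorem cong_x {k : ℕ} {a b : K} {g h : GL chevD4.Idx K} (h₁ : a = b) (h₂ : g = h) : x k a * g = x k b * h := by
  rw [h₁, h₂]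

theorem cong_last {k : ℕ} {a b : K} (h : a = b) : x k a = x k b := by rw [h]

theorem comm : CommOK D4.C := Cert.D4.core.commOK_mild mildD4

variable [CharP K 2]

theorem swap_none {r s : Rt chevD4} (h1 : s ≠ r) (h2 : s ≠ r.rev) (h : chevD4.commTerms r.val s.val = [])
    (t u : K) : x s.val u * x r.val t = x r.val t * x s.val u := by
  simp only [x_eq]
  rw [comm.comm_X r s h1 h2, h]
  simp

theorem swap_sum {r s q : Rt chevD4} (h1 : s ≠ r) (h2 : s ≠ r.rev)
    (h : chevD4.commTerms r.val s.val = [(q.val, 1, 1, 1)] ∨ chevD4.commTerms r.val s.val = [(q.val, -1, 1, 1)])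
    (t u : K) : x s.val u * x r.val t = x r.val t * (x s.val u * x q.val (t * u)) := by
  simp only [x_eq]
  rcases h with h | h <;>
    · rw [comm.comm_X r s h1 h2, h, mul_assoc]
      simp [D4.C.XN_fin, CharTwo.neg_eq]

theorem swap_13_12 (t u : K) : x 13 u * x 12 t = x 12 t * x 13 u :=
  swap_none (r := ⟨12, by decide⟩) (s := ⟨13, by decide⟩) (by decide +kernel) (by decide +kernel) (by decide +kernel) t u

theorem swap_13_12' (t u : K) (g : GL chevD4.Idx K) : x 13 u * (x 12 t * g) = x 12 t * (x 13 u * g) := by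
  rw [← mul_assoc, swap_13_12, mul_assoc]

theorem swap_14_12 (t u : K) : x 14 u * x 12 t = x 12 t * (x 14 u * x 15 (t * u)) :=
  swap_sum (r := ⟨12, by decide⟩) (s := ⟨14, by decide⟩) (q := ⟨15, by decide⟩) (by decide +kernel) (by decide +kernel) (by decide +kernel) t u

theorem swap_14_12' (t u : K) (g : GL chevD4.Idx K) : x 14 u * (x 12 t * g) = x 12 t * (x 14 u * (x 15 (t * u) * g)) := by
  rw [← mul_assoc, swap_14_12, mul_assoc, mul_assoc]

theorem swap_15_12 (t u : K) : x 15 u * x 12 t = x 12 t * x 15 u :=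
  swap_none (r := ⟨12, by decide⟩) (s := ⟨15, by decide⟩) (by decide +kernel) (by decide +kernel) (by decide +kernel) t u

theorem swap_15_12' (t u : K) (g : GL chevD4.Idx K) : x 15 u * (x 12 t * g) = x 12 t * (x 15 u * g) := by
  rw [← mul_assoc, swap_15_12, mul_assoc]

theorem swap_16_12 (t u : K) : x 16 u * x 12 t = x 12 t * (x 16 u * x 17 (t * u)) :=
  swap_sum (r := ⟨12, by decide⟩) (s := ⟨16, by decide⟩) (q := ⟨17, by decide⟩) (by decide +kernel) (by decide +kernel) (by decide +kernel) t u

theorem swap_16_12' (t u : K) (g : GL chevD4.Idx K) : x 16 u * (x 12 t * g) = x 12 t * (x 16 u * (x 17 (t * u) * g)) := by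
  rw [← mul_assoc, swap_16_12, mul_assoc, mul_assoc]

theorem swap_17_12 (t u : K) : x 17 u * x 12 t = x 12 t * x 17 u :=
  swap_none (r := ⟨12, by decide⟩) (s := ⟨17, by decide⟩) (by decide +kernel) (by decide +kernel) (by decide +kernel) t u

theorem swap_17_12' (t u : K) (g : GL chevD4.Idx K) : x 17 u * (x 12 t * g) = x 12 t * (x 17 u * g) := by
  rw [← mul_assoc, swap_17_12, mul_assoc]

theorem swap_18_12 (t u : K) : x 18 u * x 12 t = x 12 t * x 18 u :=
  swap_none (r := ⟨12, by decide⟩) (s := ⟨18, by decide⟩) (by decide +kernel) (by decide +kernel) (by decide +kernel) t u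

theorem swap_18_12' (t u : K) (g : GL chevD4.Idx K) : x 18 u * (x 12 t * g) = x 12 t * (x 18 u * g) := by
  rw [← mul_assoc, swap_18_12, mul_assoc]

theorem swap_19_12 (t u : K) : x 19 u * x 12 t = x 12 t * (x 19 u * x 20 (t * u)) :=
  swap_sum (r := ⟨12, by decide⟩) (s := ⟨19, by decide⟩) (q := ⟨20, by decide⟩) (by decide +kernel) (by decide +kernel) (by decide +kernel) t u

theorem swap_19_12' (t u : K) (g : GL chevD4.Idx K) : x 19 u * (x 12 t * g) = x 12 t * (x 19 u * (x 20 (t * u) * g)) := by
  rw [← mul_assoc, swap_19_12, mul_assoc, mul_assoc]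

theorem swap_20_12 (t u : K) : x 20 u * x 12 t = x 12 t * x 20 u :=
  swap_none (r := ⟨12, by decide⟩) (s := ⟨20, by decide⟩) (by decide +kernel) (by decide +kernel) (by decide +kernel) t u

theorem swap_20_12' (t u : K) (g : GL chevD4.Idx K) : x 20 u * (x 12 t * g) = x 12 t * (x 20 u * g) := by
  rw [← mul_assoc, swap_20_12, mul_assoc]

theorem swap_21_12 (t u : K) : x 21 u * x 12 t = x 12 t * (x 21 u * x 22 (t * u)) :=
  swap_sum (r := ⟨12, by decide⟩) (s := ⟨21, by decide⟩) (q := ⟨22, by decide⟩) (by decide +kernel) (by decide +kernel) (by decide +kernel) t u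

theorem swap_21_12' (t u : K) (g : GL chevD4.Idx K) : x 21 u * (x 12 t * g) = x 12 t * (x 21 u * (x 22 (t * u) * g)) := by
  rw [← mul_assoc, swap_21_12, mul_assoc, mul_assoc]

theorem swap_22_12 (t u : K) : x 22 u * x 12 t = x 12 t * x 22 u :=
  swap_none (r := ⟨12, by decide⟩) (s := ⟨22, by decide⟩) (by decide +kernel) (by decide +kernel) (by decide +kernel) t u

theorem swap_22_12' (t u : K) (g : GL chevD4.Idx K) : x 22 u * (x 12 t * g) = x 12 t * (x 22 u * g) := by
  rw [← mul_assoc, swap_22_12, mul_assoc]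

theorem swap_23_12 (t u : K) : x 23 u * x 12 t = x 12 t * x 23 u :=
  swap_none (r := ⟨12, by decide⟩) (s := ⟨23, by decide⟩) (by decide +kernel) (by decide +kernel) (by decide +kernel) t u

theorem swap_23_12' (t u : K) (g : GL chevD4.Idx K) : x 23 u * (x 12 t * g) = x 12 t * (x 23 u * g) := by
  rw [← mul_assoc, swap_23_12, mul_assoc]

theorem swap_14_13 (t u : K) : x 14 u * x 13 t = x 13 t * (x 14 u * x 16 (t * u)) :=
  swap_sum (r := ⟨13, by decide⟩) (s := ⟨14, by decide⟩) (q := ⟨16, by decide⟩) (by decide +kernel) (by decide +kernel) (by decide +kernel) t u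

theorem swap_14_13' (t u : K) (g : GL chevD4.Idx K) : x 14 u * (x 13 t * g) = x 13 t * (x 14 u * (x 16 (t * u) * g)) := by
  rw [← mul_assoc, swap_14_13, mul_assoc, mul_assoc]

theorem swap_15_13 (t u : K) : x 15 u * x 13 t = x 13 t * (x 15 u * x 17 (t * u)) :=
  swap_sum (r := ⟨13, by decide⟩) (s := ⟨15, by decide⟩) (q := ⟨17, by decide⟩) (by decide +kernel) (by decide +kernel) (by decide +kernel) t u

theorem swap_15_13' (t u : K) (g : GL chevD4.Idx K) : x 15 u * (x 13 t * g) = x 13 t * (x 15 u * (x 17 (t * u) * g)) := by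
  rw [← mul_assoc, swap_15_13, mul_assoc, mul_assoc]

theorem swap_16_13 (t u : K) : x 16 u * x 13 t = x 13 t * x 16 u :=
  swap_none (r := ⟨13, by decide⟩) (s := ⟨16, by decide⟩) (by decide +kernel) (by decide +kernel) (by decide +kernel) t u

theorem swap_16_13' (t u : K) (g : GL chevD4.Idx K) : x 16 u * (x 13 t * g) = x 13 t * (x 16 u * g) := by
  rw [← mul_assoc, swap_16_13, mul_assoc]

theorem swap_17_13 (t u : K) : x 17 u * x 13 t = x 13 t * x 17 u :=
  swap_none (r := ⟨13, by decide⟩) (s := ⟨17, by decide⟩) (by decide +kernel) (by decide +kernel) (by decide +kernel) t u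

theorem swap_17_13' (t u : K) (g : GL chevD4.Idx K) : x 17 u * (x 13 t * g) = x 13 t * (x 17 u * g) := by
  rw [← mul_assoc, swap_17_13, mul_assoc]

theorem swap_18_13 (t u : K) : x 18 u * x 13 t = x 13 t * x 18 u :=
  swap_none (r := ⟨13, by decide⟩) (s := ⟨18, by decide⟩) (by decide +kernel) (by decide +kernel) (by decide +kernel) t u

theorem swap_18_13' (t u : K) (g : GL chevD4.Idx K) : x 18 u * (x 13 t * g) = x 13 t * (x 18 u * g) := by
  rw [← mul_assoc, swap_18_13, mul_assoc]

theorem swap_19_13 (t u : K) : x 19 u * x 13 t = x 13 t * (x 19 u * x 21 (t * u)) :=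
  swap_sum (r := ⟨13, by decide⟩) (s := ⟨19, by decide⟩) (q := ⟨21, by decide⟩) (by decide +kernel) (by decide +kernel) (by decide +kernel) t u

theorem swap_19_13' (t u : K) (g : GL chevD4.Idx K) : x 19 u * (x 13 t * g) = x 13 t * (x 19 u * (x 21 (t * u) * g)) := by
  rw [← mul_assoc, swap_19_13, mul_assoc, mul_assoc]

theorem swap_20_13 (t u : K) : x 20 u * x 13 t = x 13 t * (x 20 u * x 22 (t * u)) :=
  swap_sum (r := ⟨13, by decide⟩) (s := ⟨20, by decide⟩) (q := ⟨22, by decide⟩) (by decide +kernel) (by decide +kernel) (by decide +kernel) t u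

theorem swap_20_13' (t u : K) (g : GL chevD4.Idx K) : x 20 u * (x 13 t * g) = x 13 t * (x 20 u * (x 22 (t * u) * g)) := by
  rw [← mul_assoc, swap_20_13, mul_assoc, mul_assoc]

theorem swap_21_13 (t u : K) : x 21 u * x 13 t = x 13 t * x 21 u :=
  swap_none (r := ⟨13, by decide⟩) (s := ⟨21, by decide⟩) (by decide +kernel) (by decide +kernel) (by decide +kernel) t u

theorem swap_21_13' (t u : K) (g : GL chevD4.Idx K) : x 21 u * (x 13 t * g) = x 13 t * (x 21 u * g) := by
  rw [← mul_assoc, swap_21_13, mul_assoc]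

theorem swap_22_13 (t u : K) : x 22 u * x 13 t = x 13 t * x 22 u :=
  swap_none (r := ⟨13, by decide⟩) (s := ⟨22, by decide⟩) (by decide +kernel) (by decide +kernel) (by decide +kernel) t u

theorem swap_22_13' (t u : K) (g : GL chevD4.Idx K) : x 22 u * (x 13 t * g) = x 13 t * (x 22 u * g) := by
  rw [← mul_assoc, swap_22_13, mul_assoc]

theorem swap_23_13 (t u : K) : x 23 u * x 13 t = x 13 t * x 23 u :=
  swap_none (r := ⟨13, by decide⟩) (s := ⟨23, by decide⟩) (by decide +kernel) (by decide +kernel) (by decide +kernel) t u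

theorem swap_23_13' (t u : K) (g : GL chevD4.Idx K) : x 23 u * (x 13 t * g) = x 13 t * (x 23 u * g) := by
  rw [← mul_assoc, swap_23_13, mul_assoc]

theorem swap_15_14 (t u : K) : x 15 u * x 14 t = x 14 t * x 15 u :=
  swap_none (r := ⟨14, by decide⟩) (s := ⟨15, by decide⟩) (by decide +kernel) (by decide +kernel) (by decide +kernel) t u

theorem swap_15_14' (t u : K) (g : GL chevD4.Idx K) : x 15 u * (x 14 t * g) = x 14 t * (x 15 u * g) := by
  rw [← mul_assoc, swap_15_14, mul_assoc]

theorem swap_16_14 (t u : K) : x 16 u * x 14 t = x 14 t * x 16 u :=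
  swap_none (r := ⟨14, by decide⟩) (s := ⟨16, by decide⟩) (by decide +kernel) (by decide +kernel) (by decide +kernel) t u

theorem swap_16_14' (t u : K) (g : GL chevD4.Idx K) : x 16 u * (x 14 t * g) = x 14 t * (x 16 u * g) := by
  rw [← mul_assoc, swap_16_14, mul_assoc]

theorem swap_17_14 (t u : K) : x 17 u * x 14 t = x 14 t * x 17 u :=
  swap_none (r := ⟨14, by decide⟩) (s := ⟨17, by decide⟩) (by decide +kernel) (by decide +kernel) (by decide +kernel) t u

theorem swap_17_14' (t u : K) (g : GL chevD4.Idx K) : x 17 u * (x 14 t * g) = x 14 t * (x 17 u * g) := by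
  rw [← mul_assoc, swap_17_14, mul_assoc]

theorem swap_18_14 (t u : K) : x 18 u * x 14 t = x 14 t * (x 18 u * x 19 (t * u)) :=
  swap_sum (r := ⟨14, by decide⟩) (s := ⟨18, by decide⟩) (q := ⟨19, by decide⟩) (by decide +kernel) (by decide +kernel) (by decide +kernel) t u

theorem swap_18_14' (t u : K) (g : GL chevD4.Idx K) : x 18 u * (x 14 t * g) = x 14 t * (x 18 u * (x 19 (t * u) * g)) := by
  rw [← mul_assoc, swap_18_14, mul_assoc, mul_assoc]

theorem swap_19_14 (t u : K) : x 19 u * x 14 t = x 14 t * x 19 u :=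
  swap_none (r := ⟨14, by decide⟩) (s := ⟨19, by decide⟩) (by decide +kernel) (by decide +kernel) (by decide +kernel) t u

theorem swap_19_14' (t u : K) (g : GL chevD4.Idx K) : x 19 u * (x 14 t * g) = x 14 t * (x 19 u * g) := by
  rw [← mul_assoc, swap_19_14, mul_assoc]

theorem swap_20_14 (t u : K) : x 20 u * x 14 t = x 14 t * x 20 u :=
  swap_none (r := ⟨14, by decide⟩) (s := ⟨20, by decide⟩) (by decide +kernel) (by decide +kernel) (by decide +kernel) t u

theorem swap_20_14' (t u : K) (g : GL chevD4.Idx K) : x 20 u * (x 14 t * g) = x 14 t * (x 20 u * g) := by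
  rw [← mul_assoc, swap_20_14, mul_assoc]

theorem swap_21_14 (t u : K) : x 21 u * x 14 t = x 14 t * x 21 u :=
  swap_none (r := ⟨14, by decide⟩) (s := ⟨21, by decide⟩) (by decide +kernel) (by decide +kernel) (by decide +kernel) t u

theorem swap_21_14' (t u : K) (g : GL chevD4.Idx K) : x 21 u * (x 14 t * g) = x 14 t * (x 21 u * g) := by
  rw [← mul_assoc, swap_21_14, mul_assoc]

theorem swap_22_14 (t u : K) : x 22 u * x 14 t = x 14 t * (x 22 u * x 23 (t * u)) :=
  swap_sum (r := ⟨14, by decide⟩) (s := ⟨22, by decide⟩) (q := ⟨23, by decide⟩) (by decide +kernel) (by decide +kernel) (by decide +kernel) t u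

theorem swap_22_14' (t u : K) (g : GL chevD4.Idx K) : x 22 u * (x 14 t * g) = x 14 t * (x 22 u * (x 23 (t * u) * g)) := by
  rw [← mul_assoc, swap_22_14, mul_assoc, mul_assoc]

theorem swap_23_14 (t u : K) : x 23 u * x 14 t = x 14 t * x 23 u :=
  swap_none (r := ⟨14, by decide⟩) (s := ⟨23, by decide⟩) (by decide +kernel) (by decide +kernel) (by decide +kernel) t u

theorem swap_23_14' (t u : K) (g : GL chevD4.Idx K) : x 23 u * (x 14 t * g) = x 14 t * (x 23 u * g) := by
  rw [← mul_assoc, swap_23_14, mul_assoc]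

theorem swap_16_15 (t u : K) : x 16 u * x 15 t = x 15 t * x 16 u :=
  swap_none (r := ⟨15, by decide⟩) (s := ⟨16, by decide⟩) (by decide +kernel) (by decide +kernel) (by decide +kernel) t u

theorem swap_16_15' (t u : K) (g : GL chevD4.Idx K) : x 16 u * (x 15 t * g) = x 15 t * (x 16 u * g) := by
  rw [← mul_assoc, swap_16_15, mul_assoc]

theorem swap_17_15 (t u : K) : x 17 u * x 15 t = x 15 t * x 17 u :=
  swap_none (r := ⟨15, by decide⟩) (s := ⟨17, by decide⟩) (by decide +kernel) (by decide +kernel) (by decide +kernel) t u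

theorem swap_17_15' (t u : K) (g : GL chevD4.Idx K) : x 17 u * (x 15 t * g) = x 15 t * (x 17 u * g) := by
  rw [← mul_assoc, swap_17_15, mul_assoc]

theorem swap_18_15 (t u : K) : x 18 u * x 15 t = x 15 t * (x 18 u * x 20 (t * u)) :=
  swap_sum (r := ⟨15, by decide⟩) (s := ⟨18, by decide⟩) (q := ⟨20, by decide⟩) (by decide +kernel) (by decide +kernel) (by decide +kernel) t u

theorem swap_18_15' (t u : K) (g : GL chevD4.Idx K) : x 18 u * (x 15 t * g) = x 15 t * (x 18 u * (x 20 (t * u) * g)) := by
  rw [← mul_assoc, swap_18_15, mul_assoc, mul_assoc]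

theorem swap_19_15 (t u : K) : x 19 u * x 15 t = x 15 t * x 19 u :=
  swap_none (r := ⟨15, by decide⟩) (s := ⟨19, by decide⟩) (by decide +kernel) (by decide +kernel) (by decide +kernel) t u

theorem swap_19_15' (t u : K) (g : GL chevD4.Idx K) : x 19 u * (x 15 t * g) = x 15 t * (x 19 u * g) := by
  rw [← mul_assoc, swap_19_15, mul_assoc]

theorem swap_20_15 (t u : K) : x 20 u * x 15 t = x 15 t * x 20 u :=
  swap_none (r := ⟨15, by decide⟩) (s := ⟨20, by decide⟩) (by decide +kernel) (by decide +kernel) (by decide +kernel) t u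

theorem swap_20_15' (t u : K) (g : GL chevD4.Idx K) : x 20 u * (x 15 t * g) = x 15 t * (x 20 u * g) := by
  rw [← mul_assoc, swap_20_15, mul_assoc]

theorem swap_21_15 (t u : K) : x 21 u * x 15 t = x 15 t * (x 21 u * x 23 (t * u)) :=
  swap_sum (r := ⟨15, by decide⟩) (s := ⟨21, by decide⟩) (q := ⟨23, by decide⟩) (by decide +kernel) (by decide +kernel) (by decide +kernel) t u

theorem swap_21_15' (t u : K) (g : GL chevD4.Idx K) : x 21 u * (x 15 t * g) = x 15 t * (x 21 u * (x 23 (t * u) * g)) := by
  rw [← mul_assoc, swap_21_15, mul_assoc, mul_assoc]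

theorem swap_22_15 (t u : K) : x 22 u * x 15 t = x 15 t * x 22 u :=
  swap_none (r := ⟨15, by decide⟩) (s := ⟨22, by decide⟩) (by decide +kernel) (by decide +kernel) (by decide +kernel) t u

theorem swap_22_15' (t u : K) (g : GL chevD4.Idx K) : x 22 u * (x 15 t * g) = x 15 t * (x 22 u * g) := by
  rw [← mul_assoc, swap_22_15, mul_assoc]

theorem swap_23_15 (t u : K) : x 23 u * x 15 t = x 15 t * x 23 u :=
  swap_none (r := ⟨15, by decide⟩) (s := ⟨23, by decide⟩) (by decide +kernel) (by decide +kernel) (by decide +kernel) t u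

theorem swap_23_15' (t u : K) (g : GL chevD4.Idx K) : x 23 u * (x 15 t * g) = x 15 t * (x 23 u * g) := by
  rw [← mul_assoc, swap_23_15, mul_assoc]

theorem swap_17_16 (t u : K) : x 17 u * x 16 t = x 16 t * x 17 u :=
  swap_none (r := ⟨16, by decide⟩) (s := ⟨17, by decide⟩) (by decide +kernel) (by decide +kernel) (by decide +kernel) t u

theorem swap_17_16' (t u : K) (g : GL chevD4.Idx K) : x 17 u * (x 16 t * g) = x 16 t * (x 17 u * g) := by
  rw [← mul_assoc, swap_17_16, mul_assoc]

theorem swap_18_16 (t u : K) : x 18 u * x 16 t = x 16 t * (x 18 u * x 21 (t * u)) :=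
  swap_sum (r := ⟨16, by decide⟩) (s := ⟨18, by decide⟩) (q := ⟨21, by decide⟩) (by decide +kernel) (by decide +kernel) (by decide +kernel) t u

theorem swap_18_16' (t u : K) (g : GL chevD4.Idx K) : x 18 u * (x 16 t * g) = x 16 t * (x 18 u * (x 21 (t * u) * g)) := by
  rw [← mul_assoc, swap_18_16, mul_assoc, mul_assoc]

theorem swap_19_16 (t u : K) : x 19 u * x 16 t = x 16 t * x 19 u :=
  swap_none (r := ⟨16, by decide⟩) (s := ⟨19, by decide⟩) (by decide +kernel) (by decide +kernel) (by decide +kernel) t u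

theorem swap_19_16' (t u : K) (g : GL chevD4.Idx K) : x 19 u * (x 16 t * g) = x 16 t * (x 19 u * g) := by
  rw [← mul_assoc, swap_19_16, mul_assoc]

theorem swap_20_16 (t u : K) : x 20 u * x 16 t = x 16 t * (x 20 u * x 23 (t * u)) :=
  swap_sum (r := ⟨16, by decide⟩) (s := ⟨20, by decide⟩) (q := ⟨23, by decide⟩) (by decide +kernel) (by decide +kernel) (by decide +kernel) t u

theorem swap_20_16' (t u : K) (g : GL chevD4.Idx K) : x 20 u * (x 16 t * g) = x 16 t * (x 20 u * (x 23 (t * u) * g)) := by
  rw [← mul_assoc, swap_20_16, mul_assoc, mul_assoc]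

theorem swap_21_16 (t u : K) : x 21 u * x 16 t = x 16 t * x 21 u :=
  swap_none (r := ⟨16, by decide⟩) (s := ⟨21, by decide⟩) (by decide +kernel) (by decide +kernel) (by decide +kernel) t u

theorem swap_21_16' (t u : K) (g : GL chevD4.Idx K) : x 21 u * (x 16 t * g) = x 16 t * (x 21 u * g) := by
  rw [← mul_assoc, swap_21_16, mul_assoc]

theorem swap_22_16 (t u : K) : x 22 u * x 16 t = x 16 t * x 22 u :=
  swap_none (r := ⟨16, by decide⟩) (s := ⟨22, by decide⟩) (by decide +kernel) (by decide +kernel) (by decide +kernel) t u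

theorem swap_22_16' (t u : K) (g : GL chevD4.Idx K) : x 22 u * (x 16 t * g) = x 16 t * (x 22 u * g) := by
  rw [← mul_assoc, swap_22_16, mul_assoc]

theorem swap_23_16 (t u : K) : x 23 u * x 16 t = x 16 t * x 23 u :=
  swap_none (r := ⟨16, by decide⟩) (s := ⟨23, by decide⟩) (by decide +kernel) (by decide +kernel) (by decide +kernel) t u

theorem swap_23_16' (t u : K) (g : GL chevD4.Idx K) : x 23 u * (x 16 t * g) = x 16 t * (x 23 u * g) := by
  rw [← mul_assoc, swap_23_16, mul_assoc]

theorem swap_18_17 (t u : K) : x 18 u * x 17 t = x 17 t * (x 18 u * x 22 (t * u)) :=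
  swap_sum (r := ⟨17, by decide⟩) (s := ⟨18, by decide⟩) (q := ⟨22, by decide⟩) (by decide +kernel) (by decide +kernel) (by decide +kernel) t u

theorem swap_18_17' (t u : K) (g : GL chevD4.Idx K) : x 18 u * (x 17 t * g) = x 17 t * (x 18 u * (x 22 (t * u) * g)) := by
  rw [← mul_assoc, swap_18_17, mul_assoc, mul_assoc]

theorem swap_19_17 (t u : K) : x 19 u * x 17 t = x 17 t * (x 19 u * x 23 (t * u)) :=
  swap_sum (r := ⟨17, by decide⟩) (s := ⟨19, by decide⟩) (q := ⟨23, by decide⟩) (by decide +kernel) (by decide +kernel) (by decide +kernel) t u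

theorem swap_19_17' (t u : K) (g : GL chevD4.Idx K) : x 19 u * (x 17 t * g) = x 17 t * (x 19 u * (x 23 (t * u) * g)) := by
  rw [← mul_assoc, swap_19_17, mul_assoc, mul_assoc]

theorem swap_20_17 (t u : K) : x 20 u * x 17 t = x 17 t * x 20 u :=
  swap_none (r := ⟨17, by decide⟩) (s := ⟨20, by decide⟩) (by decide +kernel) (by decide +kernel) (by decide +kernel) t u

theorem swap_20_17' (t u : K) (g : GL chevD4.Idx K) : x 20 u * (x 17 t * g) = x 17 t * (x 20 u * g) := by
  rw [← mul_assoc, swap_20_17, mul_assoc]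

theorem swap_21_17 (t u : K) : x 21 u * x 17 t = x 17 t * x 21 u :=
  swap_none (r := ⟨17, by decide⟩) (s := ⟨21, by decide⟩) (by decide +kernel) (by decide +kernel) (by decide +kernel) t u

theorem swap_21_17' (t u : K) (g : GL chevD4.Idx K) : x 21 u * (x 17 t * g) = x 17 t * (x 21 u * g) := by
  rw [← mul_assoc, swap_21_17, mul_assoc]

theorem swap_22_17 (t u : K) : x 22 u * x 17 t = x 17 t * x 22 u :=
  swap_none (r := ⟨17, by decide⟩) (s := ⟨22, by decide⟩) (by decide +kernel) (by decide +kernel) (by decide +kernel) t u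

theorem swap_22_17' (t u : K) (g : GL chevD4.Idx K) : x 22 u * (x 17 t * g) = x 17 t * (x 22 u * g) := by
  rw [← mul_assoc, swap_22_17, mul_assoc]

theorem swap_23_17 (t u : K) : x 23 u * x 17 t = x 17 t * x 23 u :=
  swap_none (r := ⟨17, by decide⟩) (s := ⟨23, by decide⟩) (by decide +kernel) (by decide +kernel) (by decide +kernel) t u

theorem swap_23_17' (t u : K) (g : GL chevD4.Idx K) : x 23 u * (x 17 t * g) = x 17 t * (x 23 u * g) := by
  rw [← mul_assoc, swap_23_17, mul_assoc]

theorem swap_19_18 (t u : K) : x 19 u * x 18 t = x 18 t * x 19 u :=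
  swap_none (r := ⟨18, by decide⟩) (s := ⟨19, by decide⟩) (by decide +kernel) (by decide +kernel) (by decide +kernel) t u

theorem swap_19_18' (t u : K) (g : GL chevD4.Idx K) : x 19 u * (x 18 t * g) = x 18 t * (x 19 u * g) := by
  rw [← mul_assoc, swap_19_18, mul_assoc]

theorem swap_20_18 (t u : K) : x 20 u * x 18 t = x 18 t * x 20 u :=
  swap_none (r := ⟨18, by decide⟩) (s := ⟨20, by decide⟩) (by decide +kernel) (by decide +kernel) (by decide +kernel) t u

theorem swap_20_18' (t u : K) (g : GL chevD4.Idx K) : x 20 u * (x 18 t * g) = x 18 t * (x 20 u * g) := by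
  rw [← mul_assoc, swap_20_18, mul_assoc]

theorem swap_21_18 (t u : K) : x 21 u * x 18 t = x 18 t * x 21 u :=
  swap_none (r := ⟨18, by decide⟩) (s := ⟨21, by decide⟩) (by decide +kernel) (by decide +kernel) (by decide +kernel) t u

theorem swap_21_18' (t u : K) (g : GL chevD4.Idx K) : x 21 u * (x 18 t * g) = x 18 t * (x 21 u * g) := by
  rw [← mul_assoc, swap_21_18, mul_assoc]

theorem swap_22_18 (t u : K) : x 22 u * x 18 t = x 18 t * x 22 u :=
  swap_none (r := ⟨18, by decide⟩) (s := ⟨22, by decide⟩) (by decide +kernel) (by decide +kernel) (by decide +kernel) t u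

theorem swap_22_18' (t u : K) (g : GL chevD4.Idx K) : x 22 u * (x 18 t * g) = x 18 t * (x 22 u * g) := by
  rw [← mul_assoc, swap_22_18, mul_assoc]

theorem swap_23_18 (t u : K) : x 23 u * x 18 t = x 18 t * x 23 u :=
  swap_none (r := ⟨18, by decide⟩) (s := ⟨23, by decide⟩) (by decide +kernel) (by decide +kernel) (by decide +kernel) t u

theorem swap_23_18' (t u : K) (g : GL chevD4.Idx K) : x 23 u * (x 18 t * g) = x 18 t * (x 23 u * g) := by
  rw [← mul_assoc, swap_23_18, mul_assoc]

theorem swap_20_19 (t u : K) : x 20 u * x 19 t = x 19 t * x 20 u :=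
  swap_none (r := ⟨19, by decide⟩) (s := ⟨20, by decide⟩) (by decide +kernel) (by decide +kernel) (by decide +kernel) t u

theorem swap_20_19' (t u : K) (g : GL chevD4.Idx K) : x 20 u * (x 19 t * g) = x 19 t * (x 20 u * g) := by
  rw [← mul_assoc, swap_20_19, mul_assoc]

theorem swap_21_19 (t u : K) : x 21 u * x 19 t = x 19 t * x 21 u :=
  swap_none (r := ⟨19, by decide⟩) (s := ⟨21, by decide⟩) (by decide +kernel) (by decide +kernel) (by decide +kernel) t u

theorem swap_21_19' (t u : K) (g : GL chevD4.Idx K) : x 21 u * (x 19 t * g) = x 19 t * (x 21 u * g) := by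
  rw [← mul_assoc, swap_21_19, mul_assoc]

theorem swap_22_19 (t u : K) : x 22 u * x 19 t = x 19 t * x 22 u :=
  swap_none (r := ⟨19, by decide⟩) (s := ⟨22, by decide⟩) (by decide +kernel) (by decide +kernel) (by decide +kernel) t u

theorem swap_22_19' (t u : K) (g : GL chevD4.Idx K) : x 22 u * (x 19 t * g) = x 19 t * (x 22 u * g) := by
  rw [← mul_assoc, swap_22_19, mul_assoc]

theorem swap_23_19 (t u : K) : x 23 u * x 19 t = x 19 t * x 23 u :=
  swap_none (r := ⟨19, by decide⟩) (s := ⟨23, by decide⟩) (by decide +kernel) (by decide +kernel) (by decide +kernel) t u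

theorem swap_23_19' (t u : K) (g : GL chevD4.Idx K) : x 23 u * (x 19 t * g) = x 19 t * (x 23 u * g) := by
  rw [← mul_assoc, swap_23_19, mul_assoc]

theorem swap_21_20 (t u : K) : x 21 u * x 20 t = x 20 t * x 21 u :=
  swap_none (r := ⟨20, by decide⟩) (s := ⟨21, by decide⟩) (by decide +kernel) (by decide +kernel) (by decide +kernel) t u

theorem swap_21_20' (t u : K) (g : GL chevD4.Idx K) : x 21 u * (x 20 t * g) = x 20 t * (x 21 u * g) := by
  rw [← mul_assoc, swap_21_20, mul_assoc]

theorem swap_22_20 (t u : K) : x 22 u * x 20 t = x 20 t * x 22 u :=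
  swap_none (r := ⟨20, by decide⟩) (s := ⟨22, by decide⟩) (by decide +kernel) (by decide +kernel) (by decide +kernel) t u

theorem swap_22_20' (t u : K) (g : GL chevD4.Idx K) : x 22 u * (x 20 t * g) = x 20 t * (x 22 u * g) := by
  rw [← mul_assoc, swap_22_20, mul_assoc]

theorem swap_23_20 (t u : K) : x 23 u * x 20 t = x 20 t * x 23 u :=
  swap_none (r := ⟨20, by decide⟩) (s := ⟨23, by decide⟩) (by decide +kernel) (by decide +kernel) (by decide +kernel) t u

theorem swap_23_20' (t u : K) (g : GL chevD4.Idx K) : x 23 u * (x 20 t * g) = x 20 t * (x 23 u * g) := by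
  rw [← mul_assoc, swap_23_20, mul_assoc]

theorem swap_22_21 (t u : K) : x 22 u * x 21 t = x 21 t * x 22 u :=
  swap_none (r := ⟨21, by decide⟩) (s := ⟨22, by decide⟩) (by decide +kernel) (by decide +kernel) (by decide +kernel) t u

theorem swap_22_21' (t u : K) (g : GL chevD4.Idx K) : x 22 u * (x 21 t * g) = x 21 t * (x 22 u * g) := by
  rw [← mul_assoc, swap_22_21, mul_assoc]

theorem swap_23_21 (t u : K) : x 23 u * x 21 t = x 21 t * x 23 u :=
  swap_none (r := ⟨21, by decide⟩) (s := ⟨23, by decide⟩) (by decide +kernel) (by decide +kernel) (by decide +kernel) t u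

theorem swap_23_21' (t u : K) (g : GL chevD4.Idx K) : x 23 u * (x 21 t * g) = x 21 t * (x 23 u * g) := by
  rw [← mul_assoc, swap_23_21, mul_assoc]

theorem swap_23_22 (t u : K) : x 23 u * x 22 t = x 22 t * x 23 u :=
  swap_none (r := ⟨22, by decide⟩) (s := ⟨23, by decide⟩) (by decide +kernel) (by decide +kernel) (by decide +kernel) t u

theorem swap_23_22' (t u : K) (g : GL chevD4.Idx K) : x 23 u * (x 22 t * g) = x 22 t * (x 23 u * g) := by
  rw [← mul_assoc, swap_23_22, mul_assoc]

theorem merge_12 (t u : K) : x 12 t * x 12 u = x 12 (t + u) := x_add ⟨12, by decide⟩ t u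

theorem merge_12' (t u : K) (g : GL chevD4.Idx K) : x 12 t * (x 12 u * g) = x 12 (t + u) * g := by
  rw [← mul_assoc, merge_12]

theorem merge_13 (t u : K) : x 13 t * x 13 u = x 13 (t + u) := x_add ⟨13, by decide⟩ t u

theorem merge_13' (t u : K) (g : GL chevD4.Idx K) : x 13 t * (x 13 u * g) = x 13 (t + u) * g := by
  rw [← mul_assoc, merge_13]

theorem merge_14 (t u : K) : x 14 t * x 14 u = x 14 (t + u) := x_add ⟨14, by decide⟩ t u

theorem merge_14' (t u : K) (g : GL chevD4.Idx K) : x 14 t * (x 14 u * g) = x 14 (t + u) * g := by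
  rw [← mul_assoc, merge_14]

theorem merge_15 (t u : K) : x 15 t * x 15 u = x 15 (t + u) := x_add ⟨15, by decide⟩ t u

theorem merge_15' (t u : K) (g : GL chevD4.Idx K) : x 15 t * (x 15 u * g) = x 15 (t + u) * g := by
  rw [← mul_assoc, merge_15]

theorem merge_16 (t u : K) : x 16 t * x 16 u = x 16 (t + u) := x_add ⟨16, by decide⟩ t u

theorem merge_16' (t u : K) (g : GL chevD4.Idx K) : x 16 t * (x 16 u * g) = x 16 (t + u) * g := by
  rw [← mul_assoc, merge_16]

theorem merge_17 (t u : K) : x 17 t * x 17 u = x 17 (t + u) := x_add ⟨17, by decide⟩ t u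

theorem merge_17' (t u : K) (g : GL chevD4.Idx K) : x 17 t * (x 17 u * g) = x 17 (t + u) * g := by
  rw [← mul_assoc, merge_17]

theorem merge_18 (t u : K) : x 18 t * x 18 u = x 18 (t + u) := x_add ⟨18, by decide⟩ t u

theorem merge_18' (t u : K) (g : GL chevD4.Idx K) : x 18 t * (x 18 u * g) = x 18 (t + u) * g := by
  rw [← mul_assoc, merge_18]

theorem merge_19 (t u : K) : x 19 t * x 19 u = x 19 (t + u) := x_add ⟨19, by decide⟩ t u

theorem merge_19' (t u : K) (g : GL chevD4.Idx K) : x 19 t * (x 19 u * g) = x 19 (t + u) * g := by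
  rw [← mul_assoc, merge_19]

theorem merge_20 (t u : K) : x 20 t * x 20 u = x 20 (t + u) := x_add ⟨20, by decide⟩ t u

theorem merge_20' (t u : K) (g : GL chevD4.Idx K) : x 20 t * (x 20 u * g) = x 20 (t + u) * g := by
  rw [← mul_assoc, merge_20]

theorem merge_21 (t u : K) : x 21 t * x 21 u = x 21 (t + u) := x_add ⟨21, by decide⟩ t u

theorem merge_21' (t u : K) (g : GL chevD4.Idx K) : x 21 t * (x 21 u * g) = x 21 (t + u) * g := by
  rw [← mul_assoc, merge_21]

theorem merge_22 (t u : K) : x 22 t * x 22 u = x 22 (t + u) := x_add ⟨22, by decide⟩ t u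

theorem merge_22' (t u : K) (g : GL chevD4.Idx K) : x 22 t * (x 22 u * g) = x 22 (t + u) * g := by
  rw [← mul_assoc, merge_22]

theorem merge_23 (t u : K) : x 23 t * x 23 u = x 23 (t + u) := x_add ⟨23, by decide⟩ t u

theorem merge_23' (t u : K) (g : GL chevD4.Idx K) : x 23 t * (x 23 u * g) = x 23 (t + u) * g := by
  rw [← mul_assoc, merge_23]


theorem conj_beta_alpha (r t₀ t₁ t₂ : K) :
    x 18 t₀ * x 13 t₁ * x 12 t₂ * x 14 r * (x 18 t₀ * x 13 t₁ * x 12 t₂) =
      x 14 r * (x 19 (r * t₀) * x 16 (r * t₁) * x 15 (r * t₂)) *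
        (x 21 (r * t₀ * t₁) * x 17 (r * t₁ * t₂) * x 20 (r * t₂ * t₀)) *
        x 22 (r * (t₀ * t₁ * t₂)) * x 23 (r * r * (t₀ * t₁ * t₂)) := by
  simp only [mul_assoc]
  simp only [swap_13_12, swap_13_12', swap_14_12, swap_14_12', swap_15_12, swap_15_12', swap_16_12, swap_16_12', swap_17_12, swap_17_12', swap_18_12, swap_18_12', swap_19_12, swap_19_12', swap_20_12, swap_20_12', swap_21_12, swap_21_12', swap_22_12, swap_22_12', swap_23_12, swap_23_12', swap_14_13, swap_14_13', swap_15_13, swap_15_13', swap_16_13, swap_16_13', swap_17_13, swap_17_13', swap_18_13, swap_18_13', swap_19_13, swap_19_13', swap_20_13, swap_20_13', swap_21_13, swap_21_13', swap_22_13, swap_22_13', swap_23_13, swap_23_13', swap_15_14, swap_15_14', swap_16_14, swap_16_14', swap_17_14, swap_17_14', swap_18_14, swap_18_14', swap_19_14, swap_19_14', swap_20_14, swap_20_14', swap_21_14, swap_21_14', swap_22_14, swap_22_14', swap_23_14, swap_23_14', swap_16_15, swap_16_15', swap_17_15, swap_17_15', swap_18_15, swap_18_15', swap_19_15,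 swap_19_15', swap_20_15, swap_20_15', swap_21_15, swap_21_15', swap_22_15, swap_22_15', swap_23_15, swap_23_15', swap_17_16, swap_17_16', swap_18_16, swap_18_16', swap_19_16, swap_19_16', swap_20_16, swap_20_16', swap_21_16, swap_21_16', swap_22_16, swap_22_16', swap_23_16, swap_23_16', swap_18_17, swap_18_17', swap_19_17, swap_19_17', swap_20_17, swap_20_17', swap_21_17, swap_21_17', swap_22_17, swap_22_17', swap_23_17, swap_23_17', swap_19_18, swap_19_18', swap_20_18, swap_20_18', swap_21_18, swap_21_18', swap_22_18, swap_22_18', swap_23_18, swap_23_18', swap_20_19, swap_20_19', swap_21_19, swap_21_19', swap_22_19, swap_22_19', swap_23_19, swap_23_19', swap_21_20, swap_21_20', swap_22_20, swap_22_20', swap_23_20, swap_23_20', swap_22_21, swap_22_21', swap_23_21, swap_23_21', swap_23_22, swap_23_22', merge_12, merge_12', merge_13, merge_13', merge_14, merge_14', merge_15, merge_15', merge_16, merge_16', merge_17, merge_17', merge_18, merge_18', merge_19, merge_19', merge_20, merge_20', merge_21, merge_21',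 merge_22, merge_22', merge_23, merge_23']
  try simp only [CharTwo.add_self_eq_zero, x_zero, one_mul, mul_one]
  repeat' first | apply cong_x | apply cong_last | (ring_nf; done) | (ring_nf; simp only [CharTwo.two_eq_zero, mul_zero, zero_mul, add_zero, zero_add]; done)

theorem conj_A_alpha (t₀ t₁ t₂ v₀ v₁ v₂ : K) :
    x 18 t₀ * x 13 t₁ * x 12 t₂ * (x 19 v₀ * x 16 v₁ * x 15 v₂) * (x 18 t₀ * x 13 t₁ * x 12 t₂) =
      (x 19 v₀ * x 16 v₁ * x 15 v₂) *
        (x 21 (v₀ * t₁ + v₁ * t₀) * x 17 (v₁ * t₂ + v₂ * t₁) * x 20 (v₂ * t₀ + v₀ * t₂)) *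
        x 22 (v₀ * t₁ * t₂ + v₁ * t₂ * t₀ + v₂ * t₀ * t₁) *
        x 23 (v₀ * v₁ * t₂ + v₁ * v₂ * t₀ + v₂ * v₀ * t₁) := by
  simp only [mul_assoc]
  simp only [swap_13_12, swap_13_12', swap_14_12, swap_14_12', swap_15_12, swap_15_12', swap_16_12, swap_16_12', swap_17_12, swap_17_12', swap_18_12, swap_18_12', swap_19_12, swap_19_12', swap_20_12, swap_20_12', swap_21_12, swap_21_12', swap_22_12, swap_22_12', swap_23_12, swap_23_12', swap_14_13, swap_14_13', swap_15_13, swap_15_13', swap_16_13, swap_16_13', swap_17_13, swap_17_13', swap_18_13, swap_18_13', swap_19_13, swap_19_13', swap_20_13, swap_20_13', swap_21_13, swap_21_13', swap_22_13, swap_22_13', swap_23_13, swap_23_13', swap_15_14, swap_15_14', swap_16_14, swap_16_14', swap_17_14, swap_17_14', swap_18_14, swap_18_14', swap_19_14, swap_19_14', swap_20_14, swap_20_14', swap_21_14, swap_21_14', swap_22_14, swap_22_14', swap_23_14, swap_23_14', swap_16_15, swap_16_15', swap_17_15, swap_17_15', swap_18_15, swap_18_15', swap_19_15, swap_19_15', swap_20_15,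 swap_20_15', swap_21_15, swap_21_15', swap_22_15, swap_22_15', swap_23_15, swap_23_15', swap_17_16, swap_17_16', swap_18_16, swap_18_16', swap_19_16, swap_19_16', swap_20_16, swap_20_16', swap_21_16, swap_21_16', swap_22_16, swap_22_16', swap_23_16, swap_23_16', swap_18_17, swap_18_17', swap_19_17, swap_19_17', swap_20_17, swap_20_17', swap_21_17, swap_21_17', swap_22_17, swap_22_17', swap_23_17, swap_23_17', swap_19_18, swap_19_18', swap_20_18, swap_20_18', swap_21_18, swap_21_18', swap_22_18, swap_22_18', swap_23_18, swap_23_18', swap_20_19, swap_20_19', swap_21_19, swap_21_19', swap_22_19, swap_22_19', swap_23_19, swap_23_19', swap_21_20, swap_21_20', swap_22_20, swap_22_20', swap_23_20, swap_23_20', swap_22_21, swap_22_21', swap_23_21, swap_23_21', swap_23_22, swap_23_22', merge_12, merge_12', merge_13, merge_13', merge_14, merge_14', merge_15, merge_15', merge_16, merge_16', merge_17, merge_17', merge_18, merge_18', merge_19, merge_19', merge_20, merge_20', merge_21, merge_21', merge_22, merge_22',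 merge_23, merge_23']
  try simp only [CharTwo.add_self_eq_zero, x_zero, one_mul, mul_one]
  repeat' first | apply cong_x | apply cong_last | (ring_nf; done) | (ring_nf; simp only [CharTwo.two_eq_zero, mul_zero, zero_mul, add_zero, zero_add]; done)

theorem conj_B_alpha (t₀ t₁ t₂ s₀ s₁ s₂ : K) :
    x 18 t₀ * x 13 t₁ * x 12 t₂ * (x 21 s₀ * x 17 s₁ * x 20 s₂) * (x 18 t₀ * x 13 t₁ * x 12 t₂) =
      (x 21 s₀ * x 17 s₁ * x 20 s₂) * x 22 (s₀ * t₂ + s₁ * t₀ + s₂ * t₁) := by
  simp only [mul_assoc]
  simp only [swap_13_12, swap_13_12', swap_14_12, swap_14_12', swap_15_12, swap_15_12', swap_16_12, swap_16_12', swap_17_12, swap_17_12', swap_18_12, swap_18_12', swap_19_12, swap_19_12', swap_20_12, swap_20_12', swap_21_12, swap_21_12', swap_22_12, swap_22_12', swap_23_12, swap_23_12', swap_14_13, swap_14_13', swap_15_13, swap_15_13', swap_16_13, swap_16_13', swap_17_13, swap_17_13', swap_18_13, swap_18_13', swap_19_13, swap_19_13', swap_20_13, swap_20_13', swap_21_13, swap_21_13', swap_22_13, swap_22_13', swap_23_13,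 swap_23_13', swap_15_14, swap_15_14', swap_16_14, swap_16_14', swap_17_14, swap_17_14', swap_18_14, swap_18_14', swap_19_14, swap_19_14', swap_20_14, swap_20_14', swap_21_14, swap_21_14', swap_22_14, swap_22_14', swap_23_14, swap_23_14', swap_16_15, swap_16_15', swap_17_15, swap_17_15', swap_18_15, swap_18_15', swap_19_15, swap_19_15', swap_20_15, swap_20_15', swap_21_15, swap_21_15', swap_22_15, swap_22_15', swap_23_15, swap_23_15', swap_17_16, swap_17_16', swap_18_16, swap_18_16', swap_19_16, swap_19_16', swap_20_16, swap_20_16', swap_21_16, swap_21_16', swap_22_16, swap_22_16', swap_23_16, swap_23_16', swap_18_17, swap_18_17', swap_19_17, swap_19_17', swap_20_17, swap_20_17', swap_21_17, swap_21_17', swap_22_17, swap_22_17', swap_23_17, swap_23_17', swap_19_18, swap_19_18', swap_20_18, swap_20_18', swap_21_18, swap_21_18', swap_22_18, swap_22_18', swap_23_18, swap_23_18', swap_20_19, swap_20_19', swap_21_19, swap_21_19', swap_22_19, swap_22_19', swap_23_19, swap_23_19', swap_21_20, swap_21_20', swap_22_20,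 swap_22_20', swap_23_20, swap_23_20', swap_22_21, swap_22_21', swap_23_21, swap_23_21', swap_23_22, swap_23_22', merge_12, merge_12', merge_13, merge_13', merge_14, merge_14', merge_15, merge_15', merge_16, merge_16', merge_17, merge_17', merge_18, merge_18', merge_19, merge_19', merge_20, merge_20', merge_21, merge_21', merge_22, merge_22', merge_23, merge_23']
  try simp only [CharTwo.add_self_eq_zero, x_zero, one_mul, mul_one]
  repeat' first | apply cong_x | apply cong_last | (ring_nf; done) | (ring_nf; simp only [CharTwo.two_eq_zero, mul_zero, zero_mul, add_zero, zero_add]; done)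

theorem conj_B_A (v₀ v₁ v₂ s₀ s₁ s₂ : K) :
    x 19 v₀ * x 16 v₁ * x 15 v₂ * (x 21 s₀ * x 17 s₁ * x 20 s₂) * (x 19 v₀ * x 16 v₁ * x 15 v₂) =
      (x 21 s₀ * x 17 s₁ * x 20 s₂) * x 23 (v₀ * s₁ + v₁ * s₂ + v₂ * s₀) := by
  simp only [mul_assoc]
  simp only [swap_13_12, swap_13_12', swap_14_12, swap_14_12', swap_15_12, swap_15_12', swap_16_12, swap_16_12', swap_17_12, swap_17_12', swap_18_12, swap_18_12', swap_19_12, swap_19_12', swap_20_12, swap_20_12', swap_21_12, swap_21_12', swap_22_12, swap_22_12', swap_23_12, swap_23_12', swap_14_13, swap_14_13', swap_15_13, swap_15_13', swap_16_13, swap_16_13', swap_17_13, swap_17_13', swap_18_13, swap_18_13', swap_19_13, swap_19_13', swap_20_13, swap_20_13', swap_21_13, swap_21_13', swap_22_13, swap_22_13', swap_23_13, swap_23_13', swap_15_14, swap_15_14', swap_16_14, swap_16_14', swap_17_14, swap_17_14', swap_18_14, swap_18_14', swap_19_14, swap_19_14', swap_20_14, swap_20_14', swap_21_14, swap_21_14', swap_22_14, swap_22_14', swap_23_14, swap_23_14', swap_16_15,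 swap_16_15', swap_17_15, swap_17_15', swap_18_15, swap_18_15', swap_19_15, swap_19_15', swap_20_15, swap_20_15', swap_21_15, swap_21_15', swap_22_15, swap_22_15', swap_23_15, swap_23_15', swap_17_16, swap_17_16', swap_18_16, swap_18_16', swap_19_16, swap_19_16', swap_20_16, swap_20_16', swap_21_16, swap_21_16', swap_22_16, swap_22_16', swap_23_16, swap_23_16', swap_18_17, swap_18_17', swap_19_17, swap_19_17', swap_20_17, swap_20_17', swap_21_17, swap_21_17', swap_22_17, swap_22_17', swap_23_17, swap_23_17', swap_19_18, swap_19_18', swap_20_18, swap_20_18', swap_21_18, swap_21_18', swap_22_18, swap_22_18', swap_23_18, swap_23_18', swap_20_19, swap_20_19', swap_21_19, swap_21_19', swap_22_19, swap_22_19', swap_23_19, swap_23_19', swap_21_20, swap_21_20', swap_22_20, swap_22_20', swap_23_20, swap_23_20', swap_22_21, swap_22_21', swap_23_21, swap_23_21', swap_23_22, swap_23_22', merge_12, merge_12', merge_13, merge_13', merge_14, merge_14', merge_15, merge_15', merge_16, merge_16', merge_17, merge_17',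 merge_18, merge_18', merge_19, merge_19', merge_20, merge_20', merge_21, merge_21', merge_22, merge_22', merge_23, merge_23']
  try simp only [CharTwo.add_self_eq_zero, x_zero, one_mul, mul_one]
  repeat' first | apply cong_x | apply cong_last | (ring_nf; done) | (ring_nf; simp only [CharTwo.two_eq_zero, mul_zero, zero_mul, add_zero, zero_add]; done)

theorem conj_c_beta (r k : K) : x 14 r * x 22 k * x 14 r = x 22 k * x 23 (r * k) := by
  simp only [mul_assoc]
  simp only [swap_13_12, swap_13_12', swap_14_12, swap_14_12', swap_15_12, swap_15_12', swap_16_12, swap_16_12', swap_17_12, swap_17_12', swap_18_12, swap_18_12', swap_19_12, swap_19_12', swap_20_12, swap_20_12', swap_21_12, swap_21_12', swap_22_12, swap_22_12', swap_23_12, swap_23_12', swap_14_13, swap_14_13', swap_15_13, swap_15_13', swap_16_13, swap_16_13', swap_17_13, swap_17_13', swap_18_13, swap_18_13', swap_19_13, swap_19_13', swap_20_13, swap_20_13', swap_21_13, swap_21_13', swap_22_13, swap_22_13', swap_23_13, swap_23_13', swap_15_14,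 swap_15_14', swap_16_14, swap_16_14', swap_17_14, swap_17_14', swap_18_14, swap_18_14', swap_19_14, swap_19_14', swap_20_14, swap_20_14', swap_21_14, swap_21_14', swap_22_14, swap_22_14', swap_23_14, swap_23_14', swap_16_15, swap_16_15', swap_17_15, swap_17_15', swap_18_15, swap_18_15', swap_19_15, swap_19_15', swap_20_15, swap_20_15', swap_21_15, swap_21_15', swap_22_15, swap_22_15', swap_23_15, swap_23_15', swap_17_16, swap_17_16', swap_18_16, swap_18_16', swap_19_16, swap_19_16', swap_20_16, swap_20_16', swap_21_16, swap_21_16', swap_22_16, swap_22_16', swap_23_16, swap_23_16', swap_18_17, swap_18_17', swap_19_17, swap_19_17', swap_20_17, swap_20_17', swap_21_17, swap_21_17', swap_22_17, swap_22_17', swap_23_17, swap_23_17', swap_19_18, swap_19_18', swap_20_18, swap_20_18', swap_21_18, swap_21_18', swap_22_18, swap_22_18', swap_23_18, swap_23_18', swap_20_19, swap_20_19', swap_21_19, swap_21_19', swap_22_19, swap_22_19', swap_23_19, swap_23_19', swap_21_20, swap_21_20', swap_22_20, swap_22_20', swap_23_20,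 swap_23_20', swap_22_21, swap_22_21', swap_23_21, swap_23_21', swap_23_22, swap_23_22', merge_12, merge_12', merge_13, merge_13', merge_14, merge_14', merge_15, merge_15', merge_16, merge_16', merge_17, merge_17', merge_18, merge_18', merge_19, merge_19', merge_20, merge_20', merge_21, merge_21', merge_22, merge_22', merge_23, merge_23']
  try simp only [CharTwo.add_self_eq_zero, x_zero, one_mul, mul_one]
  repeat' first | apply cong_x | apply cong_last | (ring_nf; done) | (ring_nf; simp only [CharTwo.two_eq_zero, mul_zero, zero_mul, add_zero, zero_add]; done)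

theorem sorted_word (v₀ v₁ v₂ s₀ s₁ s₂ k m : K) :
    x 19 v₀ * x 16 v₁ * x 15 v₂ * (x 21 s₀ * x 17 s₁ * x 20 s₂) * x 22 k * x 23 m =
      x 15 v₂ * x 16 v₁ * x 17 s₁ * x 19 v₀ * x 20 s₂ * x 21 s₀ * x 22 k * x 23 (v₀ * s₁ + m) := by
  simp only [mul_assoc]
  simp only [swap_13_12, swap_13_12', swap_14_12, swap_14_12', swap_15_12, swap_15_12', swap_16_12, swap_16_12', swap_17_12, swap_17_12', swap_18_12, swap_18_12', swap_19_12, swap_19_12', swap_20_12, swap_20_12', swap_21_12, swap_21_12', swap_22_12, swap_22_12', swap_23_12, swap_23_12', swap_14_13, swap_14_13', swap_15_13, swap_15_13', swap_16_13, swap_16_13', swap_17_13, swap_17_13', swap_18_13, swap_18_13', swap_19_13, swap_19_13', swap_20_13, swap_20_13', swap_21_13, swap_21_13', swap_22_13, swap_22_13', swap_23_13, swap_23_13', swap_15_14, swap_15_14', swap_16_14, swap_16_14', swap_17_14, swap_17_14', swap_18_14, swap_18_14', swap_19_14, swap_19_14', swap_20_14, swap_20_14', swap_21_14, swap_21_14', swap_22_14, swap_22_14', swap_23_14, swap_23_14',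 swap_16_15, swap_16_15', swap_17_15, swap_17_15', swap_18_15, swap_18_15', swap_19_15, swap_19_15', swap_20_15, swap_20_15', swap_21_15, swap_21_15', swap_22_15, swap_22_15', swap_23_15, swap_23_15', swap_17_16, swap_17_16', swap_18_16, swap_18_16', swap_19_16, swap_19_16', swap_20_16, swap_20_16', swap_21_16, swap_21_16', swap_22_16, swap_22_16', swap_23_16, swap_23_16', swap_18_17, swap_18_17', swap_19_17, swap_19_17', swap_20_17, swap_20_17', swap_21_17, swap_21_17', swap_22_17, swap_22_17', swap_23_17, swap_23_17', swap_19_18, swap_19_18', swap_20_18, swap_20_18', swap_21_18, swap_21_18', swap_22_18, swap_22_18', swap_23_18, swap_23_18', swap_20_19, swap_20_19', swap_21_19, swap_21_19', swap_22_19, swap_22_19', swap_23_19, swap_23_19', swap_21_20, swap_21_20', swap_22_20, swap_22_20', swap_23_20, swap_23_20', swap_22_21, swap_22_21', swap_23_21, swap_23_21', swap_23_22, swap_23_22', merge_12, merge_12', merge_13, merge_13', merge_14, merge_14', merge_15, merge_15', merge_16, merge_16', merge_17,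 merge_17', merge_18, merge_18', merge_19, merge_19', merge_20, merge_20', merge_21, merge_21', merge_22, merge_22', merge_23, merge_23']
  try simp only [CharTwo.add_self_eq_zero, x_zero, one_mul, mul_one]
  repeat' first | apply cong_x | apply cong_last | (ring_nf; done) | (ring_nf; simp only [CharTwo.two_eq_zero, mul_zero, zero_mul, add_zero, zero_add]; done)

end Cfsg.Agent.Lib.Twist3D4Inv
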