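import Cfsg.Agent.Lib.Twist3D4Inv.Elements
import Cfsg.Agent.Lib.LieTwisted.Twist.OutSylow

/-!
Coordinates on the fixed points of the unipotent radical of ³D₄(q), q even.
-/

set_option autoImplicit false
set_option maxRecDepth 100000
set_option linter.unusedSectionVars false
set_option linter.unusedSimpArgs false

namespace Cfsg.Agent.Lib.Twist3D4Inv

open Cfsg.Lie ChevStructure LieTwisted.Twist
open scoped MatrixGroups

variable {K : Type*} [Field K] [Fintype K] [CharP K 2] {q : ℕ} {φ : K ≃+* K} (F : Frob.Facts K q 3 φ) (hq1 : 1 < q)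
  (hK : Fintype.card K = q ^ 3)

/-- The twisted group data. -/
noncomputable abbrev TT : Tw D4.C K := (D4.orth F hq1 hK).tw

include F hq1 hK

theorem hpow (t : K) : φ (φ (φ t)) = t := F.pow t

omit F hq1 hK in
theorem eps_one (r : ℕ) (hr : r < 24) : ((LieTwisted.GraphData.symD4.ε r : ℤ) : K) = 1 := by
  have h : ∀ r : Fin 24, LieTwisted.GraphData.symD4.ε r.val = 1 ∨ LieTwisted.GraphData.symD4.ε r.val = -1 := by decide +kernel
  rcases h ⟨r, hr⟩ with h | h <;> simp only at h <;> rw [h] <;> simp [CharTwo.neg_eq]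

theorem theta_x {r s : Rt chevD4} (h : Frob.rootPerm D4.g r = s) (t : K) :
    (TT F hq1 hK).τ (x r.val t) = x s.val (φ t) := by
  rw [x_eq, x_eq, (TT F hq1 hK).τ_X]
  show D4.C.X K (Frob.rootPerm D4.g r) ((LieTwisted.GraphData.symD4.ε r : K) * φ t) = _
  rw [h, eps_one r.val r.isLt, one_mul]

theorem tau_mul {a b : GL chevD4.Idx K} :
    (TT F hq1 hK).τ (a * b) = (TT F hq1 hK).τ a * (TT F hq1 hK).τ b :=
  map_mul (D4.orth F hq1 hK).Θ a b

omit F hq1 hK in
theorem x_mem_pos {k : ℕ} (h : 12 ≤ k) (h' : k < 24) (t : K) : x k t ∈ D4.C.US K D4.C.Pos := by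
  have := D4.C.X_mem_US K (S := D4.C.Pos) (r := ⟨k, h'⟩) (show 24 ≤ 2 * k by omega) t
  rwa [← x_eq] at this

omit F hq1 hK in
theorem al_mem_pos (t : K) : al φ t ∈ D4.C.US K D4.C.Pos :=
  mul_mem (mul_mem (x_mem_pos (by norm_num) (by norm_num) _) (x_mem_pos (by norm_num) (by norm_num) _))
    (x_mem_pos (by norm_num) (by norm_num) _)

omit F hq1 hK in
theorem W4_mem_pos (v s k m : K) : W4 φ v s k m ∈ D4.C.US K D4.C.Pos := by
  refine mul_mem (mul_mem (mul_mem ?_ ?_) (x_mem_pos (by norm_num) (by norm_num) _))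
    (x_mem_pos (by norm_num) (by norm_num) _)
  · exact mul_mem (mul_mem (x_mem_pos (by norm_num) (by norm_num) _) (x_mem_pos (by norm_num) (by norm_num) _))
      (x_mem_pos (by norm_num) (by norm_num) _)
  · exact mul_mem (mul_mem (x_mem_pos (by norm_num) (by norm_num) _) (x_mem_pos (by norm_num) (by norm_num) _))
      (x_mem_pos (by norm_num) (by norm_num) _)

theorem mem_W_of {g : GL chevD4.Idx K} (hg : g ∈ D4.C.US K D4.C.Pos) (hf : (TT F hq1 hK).τ g = g) :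
    g ∈ (TT F hq1 hK).W :=
  (TT F hq1 hK).posU_fix_le ⟨hg, D4.C.US_le_group _ hg, hf⟩

theorem tau_al (t : K) : (TT F hq1 hK).τ (al φ t) = al φ t := by
  rw [al, tau_mul, tau_mul, theta_x F hq1 hK (r := ⟨18, by decide⟩) (s := ⟨13, by decide⟩) (by decide +kernel),
    theta_x F hq1 hK (r := ⟨13, by decide⟩) (s := ⟨12, by decide⟩) (by decide +kernel),
    theta_x F hq1 hK (r := ⟨12, by decide⟩) (s := ⟨18, by decide⟩) (by decide +kernel), hpow F hq1 hK]
  simp only [mul_assoc, swap_18_13, swap_18_13', swap_18_12, swap_18_12', swap_13_12, swap_13_12']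

theorem tau_AA (v : K) : (TT F hq1 hK).τ (AA φ v) = AA φ v := by
  rw [AA, tau_mul, tau_mul, theta_x F hq1 hK (r := ⟨19, by decide⟩) (s := ⟨16, by decide⟩) (by decide +kernel),
    theta_x F hq1 hK (r := ⟨16, by decide⟩) (s := ⟨15, by decide⟩) (by decide +kernel),
    theta_x F hq1 hK (r := ⟨15, by decide⟩) (s := ⟨19, by decide⟩) (by decide +kernel), hpow F hq1 hK]
  simp only [mul_assoc, swap_19_16, swap_19_16', swap_19_15, swap_19_15', swap_16_15, swap_16_15']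

theorem tau_BB (s : K) : (TT F hq1 hK).τ (BB φ s) = BB φ s := by
  rw [BB, tau_mul, tau_mul, theta_x F hq1 hK (r := ⟨21, by decide⟩) (s := ⟨17, by decide⟩) (by decide +kernel),
    theta_x F hq1 hK (r := ⟨17, by decide⟩) (s := ⟨20, by decide⟩) (by decide +kernel),
    theta_x F hq1 hK (r := ⟨20, by decide⟩) (s := ⟨21, by decide⟩) (by decide +kernel), hpow F hq1 hK]
  simp only [mul_assoc, swap_21_17, swap_21_17', swap_21_20, swap_21_20', swap_20_17, swap_20_17']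

theorem al_mem (t : K) : al φ t ∈ (TT F hq1 hK).W := mem_W_of F hq1 hK (al_mem_pos t) (tau_al F hq1 hK t)

theorem beta_mem {r : K} (hr : φ r = r) : x 14 r ∈ (TT F hq1 hK).W :=
  mem_W_of F hq1 hK (x_mem_pos (by norm_num) (by norm_num) _)
    ((theta_x F hq1 hK (r := ⟨14, by decide⟩) (s := ⟨14, by decide⟩) (by decide +kernel) r).trans (by rw [hr]))

theorem c_mem {k : K} (hk : φ k = k) : x 22 k ∈ (TT F hq1 hK).W :=
  mem_W_of F hq1 hK (x_mem_pos (by norm_num) (by norm_num) _)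
    ((theta_x F hq1 hK (r := ⟨22, by decide⟩) (s := ⟨22, by decide⟩) (by decide +kernel) k).trans (by rw [hk]))

theorem z_mem {m : K} (hm : φ m = m) : x 23 m ∈ (TT F hq1 hK).W :=
  mem_W_of F hq1 hK (x_mem_pos (by norm_num) (by norm_num) _)
    ((theta_x F hq1 hK (r := ⟨23, by decide⟩) (s := ⟨23, by decide⟩) (by decide +kernel) m).trans (by rw [hm]))

theorem AA_mem (v : K) : AA φ v ∈ (TT F hq1 hK).W :=
  mem_W_of F hq1 hK (mul_mem (mul_mem (x_mem_pos (by norm_num) (by norm_num) _) (x_mem_pos (by norm_num) (by norm_num) _))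
    (x_mem_pos (by norm_num) (by norm_num) _)) (tau_AA F hq1 hK v)

theorem BB_mem (s : K) : BB φ s ∈ (TT F hq1 hK).W :=
  mem_W_of F hq1 hK (mul_mem (mul_mem (x_mem_pos (by norm_num) (by norm_num) _) (x_mem_pos (by norm_num) (by norm_num) _))
    (x_mem_pos (by norm_num) (by norm_num) _)) (tau_BB F hq1 hK s)

theorem W4_mem (v s : K) {k m : K} (hk : φ k = k) (hm : φ m = m) : W4 φ v s k m ∈ (TT F hq1 hK).W :=
  mul_mem (mul_mem (mul_mem (AA_mem F hq1 hK v) (BB_mem F hq1 hK s)) (c_mem F hq1 hK hk)) (z_mem F hq1 hK hm)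

omit F hq1 hK in
theorem W4_inj {v s k m v' s' k' m' : K} (h3 : ∀ t : K, φ (φ (φ t)) = t)
    (h : W4 φ v s k m = W4 φ v' s' k' m') : v = v' ∧ s = s' ∧ k = k' ∧ m = m' := by
  rw [W4_eq_word h3, W4_eq_word h3] at h
  let L : List (Rt chevD4) := [⟨15, by decide⟩, ⟨16, by decide⟩, ⟨17, by decide⟩, ⟨19, by decide⟩, ⟨20, by decide⟩,
    ⟨21, by decide⟩, ⟨22, by decide⟩, ⟨23, by decide⟩]
  let co : K → K → K → K → Rt chevD4 → K := fun v s k m r =>
    ([φ (φ v), φ v, φ s, 0, v, φ (φ s), s, k, v * φ s + m] : List K).getD (r.val - 15) 0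
  have hw : ∀ v s k m : K,
      x 15 (φ (φ v)) * x 16 (φ v) * x 17 (φ s) * x 19 v * x 20 (φ (φ s)) * x 21 s * x 22 k * x 23 (v * φ s + m) =
        D4.C.wordX K L (co v s k m) := fun v s k m => by
    simp [L, co, Core.wordX, ← x_eq, mul_assoc]
  rw [hw, hw] at h
  have hu := D4.C.wordX_unique K (L := L) (by decide +kernel) (fun r hr => by
    show 24 ≤ 2 * r.val
    revert hr; revert r; decide +kernel) h
  have hv := hu ⟨19, by decide⟩ (by decide +kernel)
  have hs := hu ⟨21, by decide⟩ (by decide +kernel)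
  have hk := hu ⟨22, by decide⟩ (by decide +kernel)
  have hm := hu ⟨23, by decide⟩ (by decide +kernel)
  simp [co] at hv hs hk hm
  subst hv hs hk
  exact ⟨rfl, rfl, rfl, by simpa using hm⟩

omit F hq1 hK in
theorem x_mem_posBut {i : Fin chevD4.rank} {k : Rt chevD4} (h : 12 ≤ k.val) (hne : k ≠ D4.C.p i) (t : K) :
    x k.val t ∈ D4.C.US K (D4.C.posBut i) := by
  rw [x_eq]
  exact D4.C.X_mem_US K (S := D4.C.posBut i) ⟨show 24 ≤ 2 * k.val by omega, hne⟩ t

omit F hq1 hK in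
theorem posBut_coef {i : Fin chevD4.rank} {t t' : K} {a a' : GL chevD4.Idx K}
    (ha : a ∈ D4.C.US K (D4.C.posBut i)) (ha' : a' ∈ D4.C.US K (D4.C.posBut i))
    (h : D4.C.X K (D4.C.p i) t * a = D4.C.X K (D4.C.p i) t' * a') : t = t' := by
  have hmem : D4.C.X K (D4.C.p i) (t - t') ∈ D4.C.US K (D4.C.posBut i) := by
    have e : D4.C.X K (D4.C.p i) (t - t') = a' * a⁻¹ := by
      rw [show t - t' = -t' + t by ring, ← D4.C.X_add, ← D4.C.X_inv, inv_mul_eq_iff_eq_mul, ← mul_assoc, ← h,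
        mul_inv_cancel_right]
    rw [e]
    exact mul_mem ha' (inv_mem ha)
  obtain ⟨e', he⟩ : ∃ e' : Kˣ, D4.C.P K i * D4.C.X K (D4.C.p i) (t - t') * (D4.C.P K i)⁻¹ =
      D4.C.X K (D4.C.p i).rev ((e' : K) * (t - t')) := by
    obtain ⟨e', he⟩ := D4.C.acts_wprod K [i] (D4.C.p i)
    refine ⟨e', ?_⟩
    have := he (t - t')
    rwa [D4.C.wprod_cons, show D4.C.wprod K [] = 1 from rfl, mul_one, D4.C.pprod_cons, D4.C.pprod_nil, mul_one,
      D4.C.sref_apply, D4.C.w_p] at this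
  have hb : D4.C.X K (D4.C.p i).rev ((e' : K) * (t - t')) ∈ chevD4.borelSubgroup K := by
    rw [← he]
    refine D4.C.posUS_le_borel (D4.C.conj_mem_US K (σ := D4.C.pprod [i]) ?_ (fun r hr => ?_) hmem)
    · have := D4.C.acts_wprod K [i]
      rwa [D4.C.wprod_cons, show D4.C.wprod K [] = 1 from rfl, mul_one] at this
    · rw [D4.C.pprod_cons, D4.C.pprod_nil, mul_one, D4.C.sref_apply]
      exact (D4.C.w_posBut hr).1
  have := D4.C.X_neg_mem_borel (D4.C.rev_neg (D4.C.p_pos i)) hb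
  exact sub_eq_zero.1 ((mul_eq_zero.1 this).resolve_left e'.ne_zero)

omit F hq1 hK in
theorem coords_inj (h3 : ∀ t : K, φ (φ (φ t)) = t) {r t v s k m r' t' v' s' k' m' : K}
    (h : x 14 r * al φ t * W4 φ v s k m = x 14 r' * al φ t' * W4 φ v' s' k' m') :
    r = r' ∧ t = t' ∧ v = v' ∧ s = s' ∧ k = k' ∧ m = m' := by
  have p1 : (⟨14, by decide⟩ : Rt chevD4) = D4.C.p ⟨1, by decide⟩ := by rw [D4.p_eq]; rfl
  have p0 : (⟨18, by decide⟩ : Rt chevD4) = D4.C.p ⟨0, by decide⟩ := by rw [D4.p_eq]; rfl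
  have hne : ∀ (i : Fin chevD4.rank) (j : Rt chevD4), j ≠ D4.pD i → j ≠ D4.C.p i := fun i j h => by
    rwa [D4.p_eq]
  have hW : ∀ (i : Fin chevD4.rank) (v s k m : K), (∀ j : Rt chevD4, 15 ≤ j.val → j.val ≠ 18 → j ≠ D4.pD i) →
      W4 φ v s k m ∈ D4.C.US K (D4.C.posBut i) := by
    intro i v s k m hi
    have hx : ∀ (j : Rt chevD4) (t : K), 15 ≤ j.val → j.val ≠ 18 → x j.val t ∈ D4.C.US K (D4.C.posBut i) :=
      fun j t h h' => x_mem_posBut (by omega) (hne i j (hi j h h')) t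
    simp only [W4, AA, BB]
    refine mul_mem (mul_mem (mul_mem (mul_mem (mul_mem ?_ ?_) ?_) (mul_mem (mul_mem ?_ ?_) ?_)) ?_) ?_
    · exact hx ⟨19, by decide⟩ _ (by decide) (by decide)
    · exact hx ⟨16, by decide⟩ _ (by decide) (by decide)
    · exact hx ⟨15, by decide⟩ _ (by decide) (by decide)
    · exact hx ⟨21, by decide⟩ _ (by decide) (by decide)
    · exact hx ⟨17, by decide⟩ _ (by decide) (by decide)
    · exact hx ⟨20, by decide⟩ _ (by decide) (by decide)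
    · exact hx ⟨22, by decide⟩ _ (by decide) (by decide)
    · exact hx ⟨23, by decide⟩ _ (by decide) (by decide)
  have hr : r = r' := by
    refine posBut_coef (i := ⟨1, by decide⟩) (a := al φ t * W4 φ v s k m) (a' := al φ t' * W4 φ v' s' k' m') ?_ ?_
      (by rw [← p1, ← x_eq, ← x_eq, ← mul_assoc, ← mul_assoc]; exact h)
    all_goals
      refine mul_mem ?_ (hW _ _ _ _ _ (by decide +kernel))
      exact mul_mem (mul_mem (x_mem_posBut (k := ⟨18, by decide⟩) (by decide) (hne _ _ (by decide +kernel)) _)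
        (x_mem_posBut (k := ⟨13, by decide⟩) (by decide) (hne _ _ (by decide +kernel)) _))
        (x_mem_posBut (k := ⟨12, by decide⟩) (by decide) (hne _ _ (by decide +kernel)) _)
  subst hr
  rw [mul_assoc, mul_assoc, mul_right_inj] at h
  have ht : t = t' := by
    refine posBut_coef (i := ⟨0, by decide⟩) (a := x 13 (φ t) * x 12 (φ (φ t)) * W4 φ v s k m)
      (a' := x 13 (φ t') * x 12 (φ (φ t')) * W4 φ v' s' k' m') ?_ ?_
      (by rw [← p0, ← x_eq, ← x_eq]; simpa [al, mul_assoc] using h)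
    all_goals
      refine mul_mem ?_ (hW _ _ _ _ _ (by decide +kernel))
      exact mul_mem (x_mem_posBut (k := ⟨13, by decide⟩) (by decide) (hne _ _ (by decide +kernel)) _)
        (x_mem_posBut (k := ⟨12, by decide⟩) (by decide) (hne _ _ (by decide +kernel)) _)
  subst ht
  exact ⟨rfl, rfl, W4_inj h3 (mul_left_cancel h)⟩

/-- Every fixed element of the unipotent radical has coordinates. -/
theorem exists_coords {g : GL chevD4.Idx K} (hg : g ∈ D4.C.US K D4.C.Pos) (hgW : g ∈ (TT F hq1 hK).W) :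
    ∃ r t v s k m : K, φ r = r ∧ φ k = k ∧ φ m = m ∧ g = x 14 r * al φ t * W4 φ v s k m := by
  classical
  let Z := {a : K // φ a = a}
  let f : Z × K × K × K × Z × Z → ↥(D4.C.US K D4.C.Pos ⊓ (TT F hq1 hK).W) := fun a =>
    ⟨x 14 a.1.1 * al φ a.2.1 * W4 φ a.2.2.1 a.2.2.2.1 a.2.2.2.2.1.1 a.2.2.2.2.2.1,
      mul_mem (mul_mem (x_mem_pos (by norm_num) (by norm_num) _) (al_mem_pos _)) (W4_mem_pos _ _ _ _),
      mul_mem (mul_mem (beta_mem F hq1 hK a.1.2) (al_mem F hq1 hK _)) (W4_mem F hq1 hK _ _ a.2.2.2.2.1.2 a.2.2.2.2.2.2)⟩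
  have hf : Function.Injective f := by
    rintro ⟨⟨r, hr⟩, t, v, s, ⟨k, hk⟩, ⟨m, hm⟩⟩ ⟨⟨r', hr'⟩, t', v', s', ⟨k', hk'⟩, ⟨m', hm'⟩⟩ e
    obtain ⟨rfl, rfl, rfl, rfl, rfl, rfl⟩ := coords_inj (hpow F hq1 hK) (congrArg Subtype.val e)
    rfl
  have hcard : Nat.card ↥(D4.C.US K D4.C.Pos ⊓ (TT F hq1 hK).W) ≤ Nat.card (Z × K × K × K × Z × Z) := by
    rw [Tw.card_posU]
    simp only [Nat.card_prod, Z, F.card_fix, Nat.card_eq_fintype_card (α := K), hK]
    refine le_of_eq ?_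
    show q ^ (24 / 2 / 1) = _
    ring
  obtain ⟨⟨r, t, v, s, k, m⟩, he⟩ := ((hf.bijective_of_nat_card_le hcard).2 ⟨g, hg, hgW⟩)
  exact ⟨r.1, t, v, s, k.1, m.1, r.2, k.2, m.2, (congrArg Subtype.val he).symm⟩

end Cfsg.Agent.Lib.Twist3D4Inv
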