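import Cfsg.Agent.Lib.Twist3D4Inv.Collect

/-!
The root elements of the unipotent radical of ³D₄(q) in characteristic two and their conjugation formulas.
-/

set_option autoImplicit false
set_option maxRecDepth 100000
set_option linter.unusedSectionVars false
set_option linter.unusedSimpArgs false

namespace Cfsg.Agent.Lib.Twist3D4Inv

open Cfsg.Lie ChevStructure LieTwisted.Twist
open scoped MatrixGroups

variable {K : Type*} [Field K]

/-- The element of the short fundamental orbit. -/
noncomputable def al (φ : K ≃+* K) (t : K) : GL chevD4.Idx K := x 18 t * x 13 (φ t) * x 12 (φ (φ t))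

/-- The element of the orbit of `a + b`. -/
noncomputable def AA (φ : K ≃+* K) (v : K) : GL chevD4.Idx K := x 19 v * x 16 (φ v) * x 15 (φ (φ v))

/-- The element of the orbit of `2a + b`. -/
noncomputable def BB (φ : K ≃+* K) (s : K) : GL chevD4.Idx K := x 21 s * x 17 (φ s) * x 20 (φ (φ s))

/-- The product of the root elements above the fundamental ones. -/
noncomputable def W4 (φ : K ≃+* K) (v s k m : K) : GL chevD4.Idx K := AA φ v * BB φ s * x 22 k * x 23 m

/-- The norm. -/
def nm (φ : K ≃+* K) (t : K) : K := t * φ t * φ (φ t)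

/-- The trace. -/
def tr (φ : K ≃+* K) (t : K) : K := t + φ t + φ (φ t)

/-- The component of a commutator at `2a + b`. -/
def sig (φ : K ≃+* K) (v t : K) : K := v * φ t + φ v * t

variable {φ : K ≃+* K}

theorem AA_zero : AA φ 0 = 1 := by simp [AA, x_zero]

theorem BB_zero : BB φ 0 = 1 := by simp [BB, x_zero]

theorem al_zero : al φ 0 = 1 := by simp [al, x_zero]

variable [CharP K 2]

theorem x_sq (r : Rt chevD4) (t : K) : x r.val t * x r.val t = 1 := by
  rw [x_add, CharTwo.add_self_eq_zero, x_zero]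

theorem AA_mul (a b : K) : AA φ a * AA φ b = AA φ (a + b) := by
  simp only [AA, map_add, mul_assoc, swap_19_16, swap_19_16', swap_19_15, swap_19_15', swap_16_15, swap_16_15',
    merge_15, merge_15', merge_16, merge_16', merge_19, merge_19']

theorem BB_mul (a b : K) : BB φ a * BB φ b = BB φ (a + b) := by
  simp only [BB, map_add, mul_assoc, swap_21_17, swap_21_17', swap_21_20, swap_21_20', swap_20_17, swap_20_17',
    merge_17, merge_17', merge_20, merge_20', merge_21, merge_21']

theorem al_mul (a b : K) : al φ a * al φ b = al φ (a + b) := by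
  simp only [al, map_add, mul_assoc, swap_18_13, swap_18_13', swap_18_12, swap_18_12', swap_13_12, swap_13_12',
    merge_12, merge_12', merge_13, merge_13', merge_18, merge_18']

theorem AA_sq (a : K) : AA φ a * AA φ a = 1 := by rw [AA_mul, CharTwo.add_self_eq_zero, AA_zero]

theorem BB_sq (a : K) : BB φ a * BB φ a = 1 := by rw [BB_mul, CharTwo.add_self_eq_zero, BB_zero]

theorem al_sq (a : K) : al φ a * al φ a = 1 := by rw [al_mul, CharTwo.add_self_eq_zero, al_zero]

theorem z_comm_al (m t : K) : Commute (x 23 m) (al φ t) := by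
  simp only [Commute, SemiconjBy, al, mul_assoc, swap_23_18, swap_23_18', swap_23_13, swap_23_13', swap_23_12, swap_23_12']

theorem z_comm_beta (m r : K) : Commute (x 23 m) (x 14 r) := swap_23_14 r m

theorem z_comm_AA (m v : K) : Commute (x 23 m) (AA φ v) := by
  simp only [Commute, SemiconjBy, AA, mul_assoc, swap_23_19, swap_23_19', swap_23_16, swap_23_16', swap_23_15, swap_23_15']

theorem z_comm_BB (m s : K) : Commute (x 23 m) (BB φ s) := by
  simp only [Commute, SemiconjBy, BB, mul_assoc, swap_23_21, swap_23_21', swap_23_17, swap_23_17', swap_23_20, swap_23_20']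

theorem c_comm_al (k t : K) : Commute (x 22 k) (al φ t) := by
  simp only [Commute, SemiconjBy, al, mul_assoc, swap_22_18, swap_22_18', swap_22_13, swap_22_13', swap_22_12, swap_22_12']

theorem c_comm_AA (k v : K) : Commute (x 22 k) (AA φ v) := by
  simp only [Commute, SemiconjBy, AA, mul_assoc, swap_22_19, swap_22_19', swap_22_16, swap_22_16', swap_22_15, swap_22_15']

theorem c_comm_BB (k s : K) : Commute (x 22 k) (BB φ s) := by
  simp only [Commute, SemiconjBy, BB, mul_assoc, swap_22_21, swap_22_21', swap_22_17, swap_22_17', swap_22_20, swap_22_20']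

theorem beta_comm_AA (r v : K) : Commute (AA φ v) (x 14 r) := by
  simp only [Commute, SemiconjBy, AA, mul_assoc, swap_19_14, swap_19_14', swap_16_14, swap_16_14', swap_15_14, swap_15_14']

theorem beta_comm_BB (r s : K) : Commute (BB φ s) (x 14 r) := by
  simp only [Commute, SemiconjBy, BB, mul_assoc, swap_21_14, swap_21_14', swap_17_14, swap_17_14', swap_20_14, swap_20_14']

variable (h3 : ∀ t : K, φ (φ (φ t)) = t)
include h3

theorem al_beta_al {r : K} (hr : φ r = r) (t : K) :
    al φ t * x 14 r * al φ t = x 14 r * W4 φ (r * t) (r * t * φ t) (r * nm φ t) (r * r * nm φ t) := by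
  have h := conj_beta_alpha r t (φ t) (φ (φ t))
  simpa only [al, W4, AA, BB, nm, map_mul, hr, h3, mul_assoc] using h

theorem al_AA_al (v t : K) :
    al φ t * AA φ v * al φ t = W4 φ v (sig φ v t) (tr φ (v * φ t * φ (φ t))) (tr φ (v * φ v * φ (φ t))) := by
  have h := conj_A_alpha t (φ t) (φ (φ t)) v (φ v) (φ (φ v))
  simpa only [al, W4, AA, BB, tr, sig, map_mul, map_add, h3, mul_assoc] using h

theorem al_BB_al (s t : K) : al φ t * BB φ s * al φ t = BB φ s * x 22 (tr φ (s * φ (φ t))) := by
  have h := conj_B_alpha t (φ t) (φ (φ t)) s (φ s) (φ (φ s))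
  simpa only [al, BB, tr, map_mul, h3, mul_assoc] using h

theorem AA_BB_AA (v s : K) : AA φ v * BB φ s * AA φ v = BB φ s * x 23 (tr φ (v * φ s)) := by
  have h := conj_B_A v (φ v) (φ (φ v)) s (φ s) (φ (φ s))
  simpa only [AA, BB, tr, map_mul, h3, mul_assoc] using h

theorem W4_mul (v s k m v' s' k' m' : K) :
    W4 φ v s k m * W4 φ v' s' k' m' = W4 φ (v + v') (s + s') (k + k') (tr φ (v' * φ s) + m + m') := by
  have h1 : BB φ s * AA φ v' = AA φ v' * (BB φ s * x 23 (tr φ (v' * φ s))) := by
    rw [← AA_BB_AA h3, ← mul_assoc, ← mul_assoc, AA_sq, one_mul]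
  unfold W4
  calc AA φ v * BB φ s * x 22 k * x 23 m * (AA φ v' * BB φ s' * x 22 k' * x 23 m')
      = AA φ v * BB φ s * x 22 k * (x 23 m * AA φ v') * BB φ s' * x 22 k' * x 23 m' := by group
    _ = AA φ v * BB φ s * (x 22 k * AA φ v') * x 23 m * BB φ s' * x 22 k' * x 23 m' := by
        rw [(z_comm_AA m v').eq]; group
    _ = AA φ v * (BB φ s * AA φ v') * x 22 k * x 23 m * BB φ s' * x 22 k' * x 23 m' := by
        rw [(c_comm_AA k v').eq]; group
    _ = AA φ v * AA φ v' * BB φ s * x 23 (tr φ (v' * φ s)) * x 22 k * (x 23 m * BB φ s') * x 22 k' * x 23 m' := by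
        rw [h1]; group
    _ = AA φ v * AA φ v' * BB φ s * x 23 (tr φ (v' * φ s)) * (x 22 k * BB φ s') * x 23 m * x 22 k' * x 23 m' := by
        rw [(z_comm_BB m s').eq]; group
    _ = AA φ v * AA φ v' * BB φ s * (x 23 (tr φ (v' * φ s)) * BB φ s') * x 22 k * x 23 m * x 22 k' * x 23 m' := by
        rw [(c_comm_BB k s').eq]; group
    _ = (AA φ v * AA φ v') * (BB φ s * BB φ s') * (x 23 (tr φ (v' * φ s)) * x 22 k) * (x 23 m * x 22 k') * x 23 m' := by
        rw [(z_comm_BB _ s').eq]; group
    _ = (AA φ v * AA φ v') * (BB φ s * BB φ s') * (x 22 k * x 23 (tr φ (v' * φ s))) * (x 22 k' * x 23 m) * x 23 m' := by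
        rw [swap_23_22, swap_23_22]
    _ = (AA φ v * AA φ v') * (BB φ s * BB φ s') * (x 22 k * (x 23 (tr φ (v' * φ s)) * x 22 k')) * (x 23 m * x 23 m') := by
        group
    _ = (AA φ v * AA φ v') * (BB φ s * BB φ s') * (x 22 k * x 22 k') * (x 23 (tr φ (v' * φ s)) * (x 23 m * x 23 m')) := by
        rw [swap_23_22]; group
    _ = _ := by
        rw [AA_mul, BB_mul, merge_22, merge_23, merge_23, add_assoc]

theorem W4_al (v s k m t : K) :
    al φ t * W4 φ v s k m * al φ t =
      W4 φ v (s + sig φ v t) (k + tr φ (v * φ t * φ (φ t)) + tr φ (s * φ (φ t)))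
        (m + tr φ (v * φ v * φ (φ t))) := by
  have e : al φ t * W4 φ v s k m * al φ t =
      (al φ t * AA φ v * al φ t) * (al φ t * BB φ s * al φ t) * (x 22 k * x 23 m) := by
    rw [W4]
    calc al φ t * (AA φ v * BB φ s * x 22 k * x 23 m) * al φ t
        = al φ t * AA φ v * BB φ s * x 22 k * (x 23 m * al φ t) := by group
      _ = al φ t * AA φ v * BB φ s * (x 22 k * al φ t) * x 23 m := by rw [(z_comm_al m t).eq]; group
      _ = al φ t * AA φ v * (al φ t * al φ t) * BB φ s * al φ t * x 22 k * x 23 m := by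
          rw [(c_comm_al k t).eq, al_sq]; group
      _ = _ := by group
  rw [e, al_AA_al h3, al_BB_al h3]
  rw [show BB φ s * x 22 (tr φ (s * φ (φ t))) = W4 φ 0 s (tr φ (s * φ (φ t))) 0 by
    simp [W4, AA_zero, x_zero], show x 22 k * x 23 m = W4 φ 0 0 k m by simp [W4, AA_zero, BB_zero],
    W4_mul h3, W4_mul h3]
  congr 1 <;> simp [tr] <;> ring

theorem W4_beta {r : K} (v s k m : K) : x 14 r * W4 φ v s k m * x 14 r = W4 φ v s k (m + r * k) := by
  rw [W4, W4]
  calc x 14 r * (AA φ v * BB φ s * x 22 k * x 23 m) * x 14 r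
      = (x 14 r * AA φ v) * BB φ s * x 22 k * (x 23 m * x 14 r) := by group
    _ = AA φ v * (x 14 r * BB φ s) * x 22 k * x 14 r * x 23 m := by
        rw [← (beta_comm_AA r v).eq, (z_comm_beta m r).eq]; group
    _ = AA φ v * BB φ s * (x 14 r * x 22 k * x 14 r) * x 23 m := by rw [← (beta_comm_BB r s).eq]; group
    _ = AA φ v * BB φ s * (x 22 k * (x 23 (r * k) * x 23 m)) := by rw [conj_c_beta]; group
    _ = _ := by rw [merge_23, add_comm]; group

theorem W4_eq_word (v s k m : K) : W4 φ v s k m =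
    x 15 (φ (φ v)) * x 16 (φ v) * x 17 (φ s) * x 19 v * x 20 (φ (φ s)) * x 21 s * x 22 k * x 23 (v * φ s + m) :=
  sorted_word v (φ v) (φ (φ v)) s (φ s) (φ (φ s)) k m

/-! Arithmetic of the norm and the trace. -/

theorem φ_nm (t : K) : φ (nm φ t) = nm φ t := by
  rw [nm, map_mul, map_mul, h3]; ring

theorem φ_tr (t : K) : φ (tr φ t) = tr φ t := by
  rw [tr, map_add, map_add, h3]; ring

theorem tr_mul {a : K} (ha : φ a = a) (t : K) : tr φ (a * t) = a * tr φ t := by
  simp only [tr, map_mul, ha]; ring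

theorem tr_φ (t : K) : tr φ (φ t) = tr φ t := by rw [tr, tr, h3]; ring

theorem tr_fixed {a : K} (ha : φ a = a) : tr φ a = a := by
  rw [tr, ha, ha, CharTwo.add_self_eq_zero, zero_add]

omit h3 in
theorem nm_ne_zero {t : K} (ht : t ≠ 0) : nm φ t ≠ 0 :=
  mul_ne_zero (mul_ne_zero ht ((map_ne_zero φ).2 ht)) ((map_ne_zero φ).2 ((map_ne_zero φ).2 ht))

/-- The additive form of Hilbert's Theorem 90 in the shape needed. -/
theorem exists_sig {t s : K} (ht : t ≠ 0) (hs : tr φ (s * φ (φ t)) = 0) : ∃ a, sig φ a t = s := by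
  set y := s / (t * φ t) with hy
  have hs' : s = t * φ t * y := by rw [hy, mul_div_cancel₀ _ (mul_ne_zero ht ((map_ne_zero φ).2 ht))]
  have hy0 : tr φ y = 0 := by
    rw [hs', show t * φ t * y * φ (φ t) = nm φ t * y by rw [nm]; ring, tr_mul h3 (φ_nm h3 t)] at hs
    exact (mul_eq_zero.1 hs).resolve_left (nm_ne_zero ht)
  refine ⟨t * φ y, ?_⟩
  rw [sig, map_mul, hs']
  have : y = φ y + φ (φ y) := by
    rw [tr, add_assoc] at hy0
    exact CharTwo.add_eq_zero.1 hy0
  conv_rhs => rw [this]
  ring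

theorem sig_eq_zero {t v : K} (ht : t ≠ 0) (h : sig φ v t = 0) : ∃ l, φ l = l ∧ v = l * t := by
  refine ⟨v / t, ?_, (div_mul_cancel₀ v ht).symm⟩
  rw [map_div₀, div_eq_div_iff ((map_ne_zero φ).2 ht) ht]
  exact (CharTwo.add_eq_zero.1 h).symm

omit h3 in
theorem sig_self_mul {l : K} (hl : φ l = l) (t : K) : sig φ (l * t) t = 0 := by
  rw [sig, map_mul, hl, show l * t * φ t + l * φ t * t = (l * t * φ t) + (l * t * φ t) by ring,
    CharTwo.add_self_eq_zero]

omit h3 in
theorem sig_mul_self {l : K} (hl : φ l = l) (v : K) : sig φ v (l * v) = 0 := by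
  rw [sig, map_mul, hl, show v * (l * φ v) + φ v * (l * v) = (l * (v * φ v)) + (l * (v * φ v)) by ring,
    CharTwo.add_self_eq_zero]

end Cfsg.Agent.Lib.Twist3D4Inv
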