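import Cfsg.Agent.Lib.Twist3D4Inv.Classes
import Cfsg.Agent.Lib.LieTwisted.Twist.D4Thms

/-!
³D₄(q), q even, has exactly two classes of involutions.
-/

set_option autoImplicit false
set_option maxRecDepth 100000
set_option linter.unusedSectionVars false
set_option linter.unusedSimpArgs false

namespace Cfsg.Agent.Lib.Twist3D4Inv

open Cfsg.Lie ChevStructure LieTwisted.Twist
open scoped MatrixGroups

variable {K : Type*} [Field K] [Fintype K] [CharP K 2] {q : ℕ} {φ : K ≃+* K} (F : Frob.Facts K q 3 φ) (hq1 : 1 < q)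
  (hK : Fintype.card K = q ^ 3)

theorem A_vals : A chevD4 ⟨0, by decide⟩ ⟨19, by decide⟩ = 1 ∧ A chevD4 ⟨1, by decide⟩ ⟨19, by decide⟩ = 1 ∧
    A chevD4 ⟨2, by decide⟩ ⟨19, by decide⟩ = -1 ∧ A chevD4 ⟨3, by decide⟩ ⟨19, by decide⟩ = -1 ∧
    A chevD4 ⟨0, by decide⟩ ⟨16, by decide⟩ = -1 ∧ A chevD4 ⟨1, by decide⟩ ⟨16, by decide⟩ = 1 ∧
    A chevD4 ⟨2, by decide⟩ ⟨16, by decide⟩ = 1 ∧ A chevD4 ⟨3, by decide⟩ ⟨16, by decide⟩ = -1 ∧
    A chevD4 ⟨0, by decide⟩ ⟨15, by decide⟩ = -1 ∧ A chevD4 ⟨1, by decide⟩ ⟨15, by decide⟩ = 1 ∧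
    A chevD4 ⟨2, by decide⟩ ⟨15, by decide⟩ = -1 ∧ A chevD4 ⟨3, by decide⟩ ⟨15, by decide⟩ = 1 ∧
    A chevD4 ⟨0, by decide⟩ ⟨23, by decide⟩ = 0 ∧ A chevD4 ⟨1, by decide⟩ ⟨23, by decide⟩ = 1 ∧
    A chevD4 ⟨2, by decide⟩ ⟨23, by decide⟩ = 0 ∧ A chevD4 ⟨3, by decide⟩ ⟨23, by decide⟩ = 0 := by
  decide +kernel

theorem chA_eq (c : Fin chevD4.rank → Kˣ) (r : Rt chevD4) : D4.C.chA c r =
    c ⟨0, by decide⟩ ^ A chevD4 ⟨0, by decide⟩ r * c ⟨1, by decide⟩ ^ A chevD4 ⟨1, by decide⟩ r *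
      c ⟨2, by decide⟩ ^ A chevD4 ⟨2, by decide⟩ r * c ⟨3, by decide⟩ ^ A chevD4 ⟨3, by decide⟩ r :=
  Fin.prod_univ_four fun j : Fin chevD4.rank => c j ^ A chevD4 j r

include F hq1 hK

local notation "T" => TT F hq1 hK

theorem HT_mem {c : Fin chevD4.rank → Kˣ} (hc : c ∈ (D4.orth F hq1 hK).TF) : D4.C.HT K c ∈ (T).W := by
  refine (T).diag_mem _ (D4.C.HT_mem_diagonal c) ?_
  show Frob.theta D4.g φ (D4.C.HT K c) = _
  rw [Frob.theta_HT D4.C D4.g φ D4.root_p D4.root_rev D4.sign_p c]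
  exact congrArg (D4.C.HT K) hc

theorem AA_rel_one {v : K} (hv : v ≠ 0) : Rel T (AA φ v) (AA φ 1) := by
  have h3 := hpow F hq1 hK
  obtain ⟨l, hl⟩ := exists_sqrt v⁻¹
  have hl0 : l ≠ 0 := fun h => inv_ne_zero hv (by rw [← hl, h, mul_zero])
  let c : Fin chevD4.rank → Kˣ := ![Units.mk0 l hl0, Units.mk0 (nm φ l) (nm_ne_zero hl0),
    Units.mk0 (φ l) ((map_ne_zero φ).2 hl0), Units.mk0 (φ (φ l)) ((map_ne_zero φ).2 ((map_ne_zero φ).2 hl0))]
  have hc : c ∈ (D4.orth F hq1 hK).TF :=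
    (D4.mem_TF F hq1 hK c).2 ⟨Units.ext (φ_nm h3 l), Units.ext rfl, Units.ext rfl⟩
  refine ⟨_, HT_mem F hq1 hK hc, ?_⟩
  obtain ⟨a1, a2, a3, a4, b1, b2, b3, b4, c1, c2, c3, c4, -⟩ := A_vals
  have e0 : l * l * v = 1 := by rw [hl, inv_mul_cancel₀ hv]
  have e1 : φ l * φ l * φ v = 1 := by rw [← map_mul, ← map_mul, e0, map_one]
  have e2 : φ (φ l) * φ (φ l) * φ (φ v) = 1 := by rw [← map_mul, ← map_mul, e1, map_one]
  have k : ∀ (r : Rt chevD4) (t : K), (D4.C.chA c r : K) * t = 1 →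
      D4.C.HT K c * x r.val t * (D4.C.HT K c)⁻¹ = x r.val 1 := fun r t h => by
    rw [x_eq, x_eq, D4.C.HT_X_conj, h]
  have n1 : φ l ≠ 0 := (map_ne_zero φ).2 hl0
  have n2 : φ (φ l) ≠ 0 := (map_ne_zero φ).2 n1
  have v0 : c ⟨0, by decide⟩ = Units.mk0 l hl0 := rfl
  have v1 : c ⟨1, by decide⟩ = Units.mk0 (nm φ l) (nm_ne_zero hl0) := rfl
  have v2 : c ⟨2, by decide⟩ = Units.mk0 (φ l) n1 := rfl
  have v3 : c ⟨3, by decide⟩ = Units.mk0 (φ (φ l)) n2 := rfl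
  have k1 := k ⟨19, by decide⟩ v (by
    rw [chA_eq, a1, a2, a3, a4]; simp [v0, v1, v2, v3, nm]; field_simp; linear_combination e0)
  have k2 := k ⟨16, by decide⟩ (φ v) (by
    rw [chA_eq, b1, b2, b3, b4]; simp [v0, v1, v2, v3, nm]; field_simp; linear_combination e1)
  have k3 := k ⟨15, by decide⟩ (φ (φ v)) (by
    rw [chA_eq, c1, c2, c3, c4]; simp [v0, v1, v2, v3, nm]; field_simp; linear_combination e2)
  simp only [AA, map_one]
  rw [← k1, ← k2, ← k3]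
  group

theorem z_rel_one {m : K} (hm0 : m ≠ 0) (hm : φ m = m) : Rel T (x 23 m) (x 23 1) := by
  let u : Kˣ := (Units.mk0 m hm0)⁻¹
  have hu : Units.map (φ : K →* K) u = u := Units.ext (by simp [u, hm])
  let c : Fin chevD4.rank → Kˣ := ![1, u, 1, 1]
  have hc : c ∈ (D4.orth F hq1 hK).TF := (D4.mem_TF F hq1 hK c).2 ⟨hu, map_one _, map_one _⟩
  refine ⟨_, HT_mem F hq1 hK hc, ?_⟩
  obtain ⟨-, -, -, -, -, -, -, -, -, -, -, -, d1, d2, d3, d4⟩ := A_vals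
  have h : (D4.C.chA c ⟨23, by decide⟩ : K) * m = 1 := by
    rw [chA_eq, d1, d2, d3, d4, show c ⟨1, by decide⟩ = u from rfl]; simp [u, hm0]
  have e := D4.C.HT_X_conj K c ⟨23, by decide⟩ m
  rw [← x_eq, h, ← x_eq] at e
  exact e

omit F hq1 hK in
/-- The root subgroups at the top are normalised by the positive ones. -/
theorem US_le_normalizer {S I : Set (Rt chevD4)} (hS : S ⊆ D4.C.Pos) (n₀ : ℕ) (h12 : 12 ≤ n₀)
    (hI : ∀ s, s ∈ I ↔ n₀ ≤ s.val) : D4.C.US K S ≤ Subgroup.normalizer (D4.C.US K I : Set (GL chevD4.Idx K)) := by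
  have hIP : I ⊆ D4.C.Pos := fun s hs => by have := (hI s).1 hs; show 24 ≤ 2 * s.val; omega
  refine (Subgroup.closure_le _).2 ?_
  rintro g ⟨r, hr, t, rfl⟩
  refine Cert.D4.core.commOK_mild mildD4 |>.mem_normalizer (D4.C.absorb_of_closed hS hIP ?_ hr) t
  intro a ha b hb c i j hi hj hv
  have h1 := D4.C.ht_combo hv
  have h2 := D4.C.ht_pos (hS ha)
  have h3 := D4.C.ht_pos (hIP hb)
  have h4 : D4.C.ht b < D4.C.ht c := by
    have h5 : (1 : ℤ) ≤ i := by exact_mod_cast hi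
    have h6 : (1 : ℤ) ≤ j := by exact_mod_cast hj
    rw [h1]
    nlinarith
  have h7 : b.val < c.val := D4.C.lt_of_ht_lt h4
  exact (hI c).2 (le_trans ((hI b).1 hb) h7.le)

theorem not_rel : ¬ Rel T (x 23 1) (AA φ 1) := by
  rintro ⟨g, hg, e⟩
  have h3 := hpow F hq1 hK
  obtain ⟨σ, hσ, hnf⟩ := (T).exists_nf ((T).W_le hg) ((T).W_fix g hg)
  obtain ⟨n, hn, hnm, hna⟩ := (T).exists_rep hσ
  obtain ⟨b, hb, -, u, hu, -, rfl⟩ := hnf n hn hnm hna
  set z : Rt chevD4 := ⟨23, by decide⟩ with hz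
  -- the part on the right
  obtain ⟨t, ht⟩ : ∃ t, u * D4.C.X K z 1 * u⁻¹ = D4.C.X K z t := by
    refine D4.C.mem_US_singleton ((Subgroup.mem_normalizer_iff.1
      (US_le_normalizer (I := {z}) (fun r hr => hr.1) 23 (by norm_num) (fun s => ?_) hu) _).1
        (D4.C.X_mem_US K (Set.mem_singleton z) 1))
    rw [Set.mem_singleton_iff, hz, Fin.ext_iff]
    have : s.val < 24 := s.isLt
    constructor <;> intro h <;> simp only at h ⊢ <;> omega
  have ht0 : t ≠ 0 := by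
    rintro rfl
    rw [D4.C.X_zero, conj_eq_one_iff] at ht
    exact one_ne_zero (D4.C.X_eq_one ht)
  -- the middle part
  obtain ⟨c, hc⟩ := hna z
  obtain ⟨v, hv, k, hk, rfl⟩ := D4.C.mem_borel_iff.1 hb
  obtain ⟨d, rfl⟩ := D4.C.mem_diagonal_iff.1 hk
  set ρ := σ z with hρ
  obtain ⟨w, hw0, hw⟩ : ∃ w, w ≠ 0 ∧ AA φ 1 = v * D4.C.X K ρ w * v⁻¹ := by
    refine ⟨(D4.C.chA d ρ : K) * ((c : K) * t), mul_ne_zero (Units.ne_zero _) (mul_ne_zero c.ne_zero ht0), ?_⟩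
    rw [← D4.C.HT_X_conj, ← hc, ← ht, ← e, show x 23 (1 : K) = D4.C.X K z 1 from x_eq z 1]
    group
  have hwX : D4.C.X K ρ w = v⁻¹ * AA φ 1 * v := by rw [hw]; group
  have hA : ∀ k : Rt chevD4, 12 ≤ k.val → k.val ≠ 14 → ∀ s : K, x k.val s ∈ D4.C.US K (D4.C.posBut ⟨1, by decide⟩) :=
    fun k h h' s => x_mem_posBut h (fun hk => h' (by rw [hk, D4.p_eq]; rfl)) s
  have hAA : AA φ (1 : K) ∈ D4.C.US K (D4.C.posBut ⟨1, by decide⟩) := by
    refine mul_mem (mul_mem ?_ ?_) ?_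
    · exact hA ⟨19, by decide⟩ (by decide) (by decide) _
    · exact hA ⟨16, by decide⟩ (by decide) (by decide) _
    · exact hA ⟨15, by decide⟩ (by decide) (by decide) _
  have hρpos : ρ ∈ D4.C.Pos := by
    by_contra hn
    refine hw0 (D4.C.X_neg_mem_borel ((D4.C.neg_iff_not_pos _).2 hn) ?_)
    rw [hwX]
    exact D4.C.posUS_le_borel (mul_mem (mul_mem (inv_mem hv) (D4.C.US_mono K (fun _ h => h.1) hAA)) hv)
  have hρfix : Frob.rootPerm D4.g ρ = ρ := by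
    have h : (T).π z = z := show Frob.rootPerm D4.g z = z by rw [hz]; decide +kernel
    have := Equiv.Perm.congr_fun ((T).mem_WT.1 hσ).2 z
    rwa [Equiv.Perm.mul_apply, Equiv.Perm.mul_apply, h] at this
  have key : ∀ r : Rt chevD4, 24 ≤ 2 * r.val → Frob.rootPerm D4.g r = r → r.val = 14 ∨ 22 ≤ r.val := by
    decide +kernel
  rcases key ρ hρpos hρfix with h14 | h22
  · have hp : ρ = D4.C.p ⟨1, by decide⟩ := by rw [D4.p_eq]; exact Fin.ext h14
    have hmem : D4.C.X K ρ w ∈ D4.C.US K (D4.C.posBut ⟨1, by decide⟩) := by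
      have hle : D4.C.US K D4.C.Pos ≤
          Subgroup.normalizer (D4.C.US K (D4.C.posBut ⟨1, by decide⟩) : Set (GL chevD4.Idx K)) := by
        rw [← CommOK.posBut_sup (C := D4.C) (T).comm (R := K) ⟨1, by decide⟩]
        exact sup_le Subgroup.le_normalizer (le_sup_left.trans ((T).comm.root_le_normalizer _))
      rw [hwX]
      simpa only [inv_inv] using (Subgroup.mem_normalizer_iff.1 (hle (inv_mem hv)) _).1 hAA
    refine hw0 (posBut_coef (i := ⟨1, by decide⟩) (a := 1) (a' := D4.C.X K ρ w) (one_mem _) hmem ?_)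
    rw [← hp, D4.C.X_zero, mul_one, one_mul]
  · let L : List (Rt chevD4) := [⟨22, by decide⟩, ⟨23, by decide⟩]
    have hL : ∀ s : Rt chevD4, s ∈ L ↔ 22 ≤ s.val := by decide +kernel
    have hmem : AA φ (1 : K) ∈ D4.C.US K {r | r ∈ L} := by
      rw [hw]
      exact (Subgroup.mem_normalizer_iff.1 (US_le_normalizer (I := {r | r ∈ L}) (subset_refl _) 22 (by norm_num) hL hv)
        _).1 (D4.C.X_mem_US K ((hL ρ).2 h22) w)
    obtain ⟨f, hf⟩ := (T).comm.exists_word (L := L) (by decide +kernel)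
      (fun r hr => by show 24 ≤ 2 * r.val; have := (hL r).1 hr; omega)
      (fun a ha b hb c i j hi hj hv => (hL c).2 (by
        have h1 := D4.C.ht_combo hv
        have h2 : D4.C.ht b < D4.C.ht c := by
          have h3 : 0 < D4.C.ht a := D4.C.ht_pos (show 24 ≤ 2 * a.val by have := (hL a).1 ha; omega)
          have h4 : 0 < D4.C.ht b := D4.C.ht_pos (show 24 ≤ 2 * b.val by have := (hL b).1 hb; omega)
          have h5 : (1 : ℤ) ≤ i := by exact_mod_cast hi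
          have h6 : (1 : ℤ) ≤ j := by exact_mod_cast hj
          rw [h1]
          nlinarith
        exact le_trans ((hL b).1 hb) (D4.C.lt_of_ht_lt h2).le)) hmem
    have hW : AA φ (1 : K) = W4 φ 0 0 (f ⟨22, by decide⟩) (f ⟨23, by decide⟩) := by
      rw [hf]
      simp [L, Core.wordX, W4, AA_zero, BB_zero, ← x_eq]
    rw [AA_eq_W4] at hW
    exact one_ne_zero (W4_inj h3 hW).1

theorem classes_ncard {f : ℕ} (hqf : q = 2 ^ f) :
    (ConjClasses.mk '' {g : ↥(T).W | orderOf g = 2}).ncard = 2 := by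
  classical
  have h3 := hpow F hq1 hK
  have : Fact (Nat.Prime 2) := ⟨Nat.prime_two⟩
  let a : ↥(T).W := ⟨AA φ 1, AA_mem F hq1 hK 1⟩
  let b : ↥(T).W := ⟨x 23 1, z_mem F hq1 hK (map_one φ)⟩
  have ho : ∀ g : ↥(T).W, orderOf g = 2 ↔ (g : GL chevD4.Idx K) * g = 1 ∧ (g : GL chevD4.Idx K) ≠ 1 := fun g => by
    rw [orderOf_eq_prime_iff, pow_two, ← Subgroup.coe_mul, OneMemClass.coe_eq_one, Ne, Ne, OneMemClass.coe_eq_one]
  have hc : ∀ g h : ↥(T).W, Rel T (g : GL chevD4.Idx K) h → ConjClasses.mk g = ConjClasses.mk h :=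
    fun g h ⟨y, hy, e⟩ => ConjClasses.mk_eq_mk_iff_isConj.2 (isConj_iff.2 ⟨⟨y, hy⟩, Subtype.ext e⟩)
  have himg : ConjClasses.mk '' {g : ↥(T).W | orderOf g = 2} = {ConjClasses.mk a, ConjClasses.mk b} := by
    refine Set.Subset.antisymm ?_ ?_
    · rintro _ ⟨g, hg, rfl⟩
      have hU := (T).U1_sylow (p := 2) (f := f) hq1 hqf
      obtain ⟨P, hP⟩ := (IsPGroup.of_card (p := 2) (n := 1) (G := ↥(Subgroup.zpowers g))
        (by rw [Nat.card_zpowers, hg, pow_one])).exists_le_sylow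
      obtain ⟨y, hy⟩ := MulAction.exists_smul_eq ↥(T).W P (IsPGroup.toSylow hU.1 hU.2)
      have hmem : y * g * y⁻¹ ∈ (T).U1 := by
        have h1 := congrArg (fun S : Sylow 2 ↥(T).W => (S : Subgroup ↥(T).W)) hy
        simp only [Sylow.coe_subgroup_smul, IsPGroup.toSylow_coe] at h1
        rw [← h1]
        exact ⟨g, hP (Subgroup.mem_zpowers g), rfl⟩
      have hg' := (ho (y * g * y⁻¹)).1 (by rw [← hg]; exact orderOf_injective (MulAut.conj y).toMonoidHom (MulAut.conj y).injective g)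
      have hgy : Rel T (g : GL chevD4.Idx K) (y * g * y⁻¹ : ↥(T).W) := ⟨y, y.2, rfl⟩
      rcases rel_cases F hq1 hK ((T).mem_U1.1 hmem) (y * g * y⁻¹).2 hg'.1 hg'.2 with ⟨w, hw, h⟩ | ⟨w, hw, hwf, h⟩
      · exact Or.inl (hc g a ((hgy.trans h).trans (AA_rel_one F hq1 hK hw)))
      · exact Or.inr (hc g b ((hgy.trans h).trans (z_rel_one F hq1 hK hw hwf)))
    · rintro _ (rfl | rfl)
      · refine ⟨a, (ho a).2 ⟨AA_sq 1, fun h => ?_⟩, rfl⟩
        rw [show (a : GL chevD4.Idx K) = AA φ 1 from rfl, AA_eq_W4, ← W4_zero (φ := φ)] at h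
        exact one_ne_zero (W4_inj h3 h).1
      · refine ⟨b, (ho b).2 ⟨x_sq ⟨23, by decide⟩ 1, fun h => ?_⟩, rfl⟩
        exact one_ne_zero (α := K) (D4.C.X_eq_one (r := ⟨23, by decide⟩) (t := (1 : K)) (by rw [← x_eq]; exact h))
  rw [himg]
  refine Set.ncard_pair fun h => ?_
  obtain ⟨y, hy⟩ := isConj_iff.1 (ConjClasses.mk_eq_mk_iff_isConj.1 h.symm)
  exact not_rel F hq1 hK ⟨y, y.2, congrArg Subtype.val hy⟩

end Cfsg.Agent.Lib.Twist3D4Inv
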